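import Groth.Agent.Lib.ProjSpace.Canonical
import Groth.Agent.Lib.Kaehler.BaseChange
import Groth.Agent.Lib.KVec.ExtPowPull

/-!
# The canonical module of `P^n_Y`
-/

set_option autoImplicit false
set_option linter.style.haveILetI false
universe u

open CategoryTheory CategoryTheory.Limits AlgebraicGeometry Opposite exteriorPower

noncomputable section

namespace Groth.Agent.Lib.PnOmega.CanonicalOver

open Groth.Agent.Lib
open Groth.Agent.Lib.TensorMod.Dual (rs)
open Groth.Agent.Lib.Modules.TensorSec (app_rs)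

/-- Sections of isomorphic modules. -/
def secEquiv {X : Scheme.{u}} {E E' : X.Modules} (e : E ≅ E') (U : X.Opens) :
    Γ(E, U) ≃ₗ[Γ(X, U)] Γ(E', U) where
  toFun x := e.hom.app U x
  invFun x := e.inv.app U x
  map_add' a b := map_add _ _ _
  map_smul' r a := Scheme.Modules.Hom.app_smul e.hom r a
  left_inv x := by
    show (e.hom ≫ e.inv).app U x = x
    rw [e.hom_inv_id]
    rfl
  right_inv x := by
    show (e.inv ≫ e.hom).app U x = x
    rw [e.inv_hom_id]
    rfl

/-- Exterior powers of isomorphic modules. -/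
theorem isExtPow_congr {X : Scheme.{u}} {E E' L : X.Modules} (e : E ≅ E') {i : ℕ}
    (h : ExtPow.IsExtPow i E L) : ExtPow.IsExtPow i E' L := by
  obtain ⟨φ, hφ⟩ := h
  let m : ∀ U : X.affineOpens, ↥(⋀[Γ(X, U.1)]^i Γ(E, U.1)) ≃ₗ[Γ(X, U.1)] ↥(⋀[Γ(X, U.1)]^i Γ(E', U.1)) :=
    fun U => LinearEquiv.ofLinearMap (exteriorPower.map i (secEquiv e U.1).toLinearMap)
      (exteriorPower.map i (secEquiv e U.1).symm.toLinearMap)
      (by rw [← exteriorPower.map_comp, LinearEquiv.comp_coe, LinearEquiv.symm_trans_self,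
          LinearEquiv.refl_toLinearMap, exteriorPower.map_id])
      (by rw [← exteriorPower.map_comp, LinearEquiv.comp_coe, LinearEquiv.self_trans_symm,
          LinearEquiv.refl_toLinearMap, exteriorPower.map_id])
  refine ⟨fun U => φ U ≪≫ₗ m U, fun U V hUV s => ?_⟩
  have key : ∀ (W : X.affineOpens) (t : Fin i → Γ(E', W.1)),
      (φ W ≪≫ₗ m W).symm (ιMulti Γ(X, W.1) i t) =
        (φ W).symm (ιMulti Γ(X, W.1) i fun j => e.inv.app W.1 (t j)) := fun W t =>
    congrArg (φ W).symm (exteriorPower.map_apply_ιMulti _ _)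
  refine (congrArg (L.val.map (homOfLE hUV).op) (key U s)).trans
    ((hφ U V hUV _).trans (Eq.trans ?_ (key V fun j => E'.val.map (homOfLE hUV).op (s j)).symm))
  exact congrArg (fun t => (φ V).symm (ιMulti Γ(X, V.1) i t))
    (funext fun j => (app_rs e.inv hUV (s j)).symm)

variable (Y : Scheme.{u}) (n : ℕ)

/-- `Ω^n` of `P^n_Y` over `Y` is `O(-n-1)`. -/
theorem nonempty_iso [QuasiSeparated (CohB1.ProjSpaceOver.toBase n Y)]
    (L : (CohB1.ProjSpaceOver n Y).Modules)
    (hL : ExtPow.IsExtPow n (Omega.sheaf (CohB1.ProjSpaceOver.toBase n Y)) L) :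
    Nonempty (L ≅ Twist.twistOver n Y (-(n : ℤ) - 1)) := by
  let R := ULift.{u} ℤ
  haveI := ProjSpace.Basic.isProper_toSpec n R
  let p := CohB1.ProjSpace.toSpec n R
  let g' : CohB1.ProjSpaceOver n Y ⟶ CohB1.ProjSpace n R :=
    pullback.fst p (specULiftZIsTerminal.from Y)
  have H : IsPullback g' (CohB1.ProjSpaceOver.toBase n Y) p (specULiftZIsTerminal.from Y) :=
    IsPullback.of_hasPullback _ _
  obtain ⟨c, hc, -⟩ := Kaehler.Basic.existsUnique_diffCompat (h := g') (b := specULiftZIsTerminal.from Y) H.w.symm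
    (Kaehler.DOmega.isUniversal_dOmega p) (OmegaSh.dOmega (CohB1.ProjSpaceOver.toBase n Y))
  haveI := Kaehler.BaseChange.isIso_of_isPullback H (Kaehler.DOmega.isUniversal_dOmega p)
    (Kaehler.DOmega.isUniversal_dOmega (CohB1.ProjSpaceOver.toBase n Y)) c hc
  have hΩ := FundLocal.Rank.isFinLocFreeOfRank_omega p n
  haveI := CurveBundle.Coherent.isQCoh (TensorMod.LocFree.of_rank hΩ)
  obtain ⟨M, hM⟩ := FundLocal.ExtPowExists.exists_isExtPow (Omega.sheaf p) n
  obtain ⟨a⟩ := ProjSpace.Canonical.nonempty_iso n R M hM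
  obtain ⟨b⟩ := KVec.ExtPowPull.nonempty_iso_pullback g' (TensorMod.LocFree.of_rank hΩ) hM
    (isExtPow_congr (asIso c).symm hL)
  exact ⟨b.symm ≪≫ (Scheme.Modules.pullback g').mapIso
    (a ≪≫ eqToIso (congrArg (Twist.twistProjSpace n R) (by ring)))⟩

end Groth.Agent.Lib.PnOmega.CanonicalOver
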