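import Groth.Agent.Lib.PnOmega.Hom

/-!
# Null correlation bundles: cokernels of `O(-1) ⟶ Ω(1)`
-/

set_option autoImplicit false
set_option linter.style.haveILetI false
universe u

open CategoryTheory CategoryTheory.Limits AlgebraicGeometry
open CategoryTheory.Abelian

noncomputable section

namespace Groth.Agent.Lib.PnOmega

open Groth.Agent.Lib TensorMod.Basic ProjCoh ProjCoh.Coherent Modules.Free
open Groth.Agent.Lib.CurveBundle

variable {n : ℕ} {k : Type u} [Field k]

theorem one_ne_zero_section {X : Scheme.{u}} [Nonempty X] :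
    (𝟙 (Coh.structureModule X) : Coh.structureModule X ⟶ _) ≠ 0 := fun h => by
  obtain ⟨x⟩ := ‹Nonempty X›
  have h1 : (1 : Γ(X, ⊤)) = 0 := congrArg (fun φ : Coh.structureModule X ⟶ Coh.structureModule X =>
    (φ.app ⊤ (1 : Γ(X, ⊤)) : Γ(X, ⊤))) h
  have h2 := congrArg (X.presheaf.germ ⊤ x trivial) h1
  rw [map_one, map_zero] at h2
  exact one_ne_zero h2

theorem not_isZero_of_rank {X : Scheme.{u}} [Nonempty X] {M : X.Modules} {r : ℕ}
    (hM : FlatMod.IsFinLocFreeOfRank (r + 1) M) : ¬ IsZero M := fun h => by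
  obtain ⟨x⟩ := ‹Nonempty X›
  obtain ⟨U, hx, ⟨e⟩⟩ := hM x
  haveI : Nonempty (U : Scheme.{u}) := ⟨⟨x, hx⟩⟩
  haveI : (Scheme.Modules.restrictFunctor U.ι).PreservesZeroMorphisms :=
    ⟨fun A B => by
      refine Scheme.Modules.hom_ext _ _ fun W => ConcreteCategory.ext_apply fun m => ?_
      rfl⟩
  have hz : IsZero (FlatMod.freeMod (U : Scheme.{u}) (r + 1)) :=
    IsZero.of_iso ((Scheme.Modules.restrictFunctor U.ι).map_isZero h) e.symm
  let π : FlatMod.freeMod (U : Scheme.{u}) (r + 1) ⟶ Coh.structureModule (U : Scheme.{u}) :=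
    Sigma.desc fun j => if j = 0 then 𝟙 _ else 0
  refine one_ne_zero_section (X := (U : Scheme.{u})) ?_
  calc 𝟙 (Coh.structureModule (U : Scheme.{u})) = Sigma.ι (fun _ : Fin (r + 1) => Coh.structureModule (U : Scheme.{u})) 0 ≫ π := by
        simp [π]
    _ = 0 := by rw [hz.eq_of_src π 0, Limits.comp_zero]

instance nonempty_projSpace : Nonempty (CohB1.ProjSpace n k) := inferInstance

theorem not_isZero_tw (a : ℤ) : ¬ IsZero (tw n k a) := fun h => by
  haveI : (tensorBy (tw n k (-a))).IsEquivalence :=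
    CurveBundle.Twist.isEquivalence (isInvertible_tw (-a))
  haveI : (tensorBy (tw n k (-a))).Additive := GP.additive_tensorBy _
  exact one_ne_zero_section ((IsZero.iff_id_eq_zero _).1
    (IsZero.of_iso ((tensorBy (tw n k (-a))).map_isZero h) (twCancel a (-a) (add_neg_cancel a)).symm))

variable {v : Fin (n + 1) → Γ(Twist.twistProjSpace n k 1, ⊤)}
  {K' : (CohB1.ProjSpace n k).Modules} (i : K' ≅ kernel (freeHom v))
  (hv : ∀ c : Fin (n + 1) → k, ∑ i, cst n k (c i) • v i = 0 → c = 0)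

include i hv in
/-- The cokernel has no sections. -/
theorem hom_unit_coker_eq_zero (hn : 1 ≤ n) (u : Twist.twistProjSpace n k (-1) ⟶ K') [Mono u]
    (f : Coh.structureModule (CohB1.ProjSpace n k) ⟶ cokernel u) : f = 0 := by
  haveI : HasExt.{u} (CohB1.ProjSpace n k).Modules := inferInstance
  let S : ShortComplex (CohB1.ProjSpace n k).Modules := ShortComplex.mk u (cokernel.π u) (cokernel.condition u)
  have hS : S.ShortExact := { exact := ShortComplex.exact_cokernel u, mono_f := inferInstanceAs (Mono u) }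
  have hE : Subsingleton (Ext.{u} (Coh.structureModule (CohB1.ProjSpace n k)) S.X₁ 1) :=
    SerreDual.subsingleton_ext_iso (twZero (n := n) (R := k)).symm (Iso.refl _) 1
      (subsingleton_ext_tw' (a := 0) (b := -1) (by omega) one_ne_zero)
  obtain ⟨x, hx⟩ := Ext.covariant_sequence_exact₃ _ hS (Ext.mk₀ f) (zero_add 1) (Subsingleton.elim _ _)
  obtain ⟨g, rfl⟩ := (Ext.mk₀_bijective _ _).2 x
  have hg : g ≫ cokernel.π u = f := (Ext.mk₀_bijective _ _).1 ((Ext.mk₀_comp_mk₀ g S.g).symm.trans hx)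
  have h0 : g ≫ i.hom = 0 := hom_unit_eq_zero v hv _
  rw [← hg, show g = (g ≫ i.hom) ≫ i.inv by simp, h0, Limits.zero_comp, Limits.zero_comp]

include i hv in
theorem end_scalar' [IsAlgClosed k] [Epi (freeHom v)] (hn : 1 ≤ n) (φ : K' ⟶ K') : ∃ c : k, φ = c • 𝟙 _ := by
  obtain ⟨c, hc⟩ := end_kernel_scalar v hv hn (i.inv ≫ φ ≫ i.hom)
  refine ⟨c, ?_⟩
  rw [← cancel_epi i.inv, ← cancel_mono i.hom, Category.assoc, hc]
  simp

include i hv in
/-- Morphisms to a cokernel of `O(-1) ⟶ Ω(1)` lift. -/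
theorem exists_scalar_lift [IsAlgClosed k] [Epi (freeHom v)] (hn : 2 ≤ n) (u : Twist.twistProjSpace n k (-1) ⟶ K') [Mono u]
    (f : K' ⟶ cokernel u) : ∃ c : k, f = c • cokernel.π u := by
  haveI : HasExt.{u} (CohB1.ProjSpace n k).Modules := inferInstance
  let S : ShortComplex (CohB1.ProjSpace n k).Modules := ShortComplex.mk u (cokernel.π u) (cokernel.condition u)
  have hS : S.ShortExact := { exact := ShortComplex.exact_cokernel u, mono_f := inferInstanceAs (Mono u) }
  have hK := eulerSeq_shortExact v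
  have h1 : Subsingleton (Ext.{u} (eulerSeq v).X₂ S.X₁ 1) :=
    SerreDual.subsingleton_ext_sigma _ _ (n + 1) 1
      (SerreDual.subsingleton_ext_iso (twZero (n := n) (R := k)).symm (Iso.refl _) 1
        (subsingleton_ext_tw' (a := 0) (b := -1) (by omega) one_ne_zero))
  have h2 : Subsingleton (Ext.{u} (eulerSeq v).X₃ S.X₁ 2) :=
    subsingleton_ext_tw' (a := 1) (b := -1) (by omega) two_ne_zero
  have hker : Subsingleton (Ext.{u} (eulerSeq v).X₁ S.X₁ 1) := by
    refine subsingleton_of_forall_eq 0 fun x => ?_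
    obtain ⟨y, hy⟩ := Ext.contravariant_sequence_exact₁ hK S.X₁ x (show 1 + 1 = 2 from rfl)
      (Subsingleton.elim _ _)
    rw [← hy, Subsingleton.elim y 0, Ext.comp_zero]
  have hE : Subsingleton (Ext.{u} K' S.X₁ 1) :=
    SerreDual.subsingleton_ext_iso i (Iso.refl _) 1 hker
  obtain ⟨x, hx⟩ := Ext.covariant_sequence_exact₃ _ hS (Ext.mk₀ f) (zero_add 1) (Subsingleton.elim _ _)
  obtain ⟨g, rfl⟩ := (Ext.mk₀_bijective _ _).2 x
  have hg : g ≫ cokernel.π u = f := (Ext.mk₀_bijective _ _).1 ((Ext.mk₀_comp_mk₀ g S.g).symm.trans hx)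
  obtain ⟨c, rfl⟩ := end_scalar' i hv (by omega) g
  exact ⟨c, by rw [← hg, Linear.smul_comp, Category.id_comp]⟩

include i hv in
theorem end_coker_scalar [IsAlgClosed k] [Epi (freeHom v)] (hn : 2 ≤ n) (u : Twist.twistProjSpace n k (-1) ⟶ K') [Mono u]
    (φ : cokernel u ⟶ cokernel u) : ∃ c : k, φ = c • 𝟙 _ := by
  obtain ⟨c, hc⟩ := exists_scalar_lift i hv hn u (cokernel.π u ≫ φ)
  exact ⟨c, by rw [← cancel_epi (cokernel.π u), hc, Linear.comp_smul, Category.comp_id]⟩

include i hv in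
theorem coker_iso_iff [IsAlgClosed k] [Epi (freeHom v)] (hn : 2 ≤ n) (a a' : Twist.twistProjSpace n k (-1) ⟶ K') [Mono a]
    [Mono a'] {r : ℕ} (hE : FlatMod.IsFinLocFreeOfRank (r + 1) (cokernel a)) :
    Nonempty (cokernel a ≅ cokernel a') ↔ ∃ c : k, c ≠ 0 ∧ a' = c • a := by
  constructor
  · rintro ⟨e⟩
    obtain ⟨c, hc⟩ := exists_scalar_lift i hv hn a' (cokernel.π a ≫ e.hom)
    have hc0 : c ≠ 0 := fun h0 => by
      rw [h0, zero_smul] at hc
      refine not_isZero_of_rank hE ((IsZero.iff_id_eq_zero _).2 ?_)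
      rw [← cancel_epi (cokernel.π a), Category.comp_id, Limits.comp_zero,
        ← cancel_mono e.hom, hc, Limits.zero_comp]
    have h1 : a ≫ cokernel.π a' = 0 := by
      have h2 : c • (a ≫ cokernel.π a') = 0 := by
        rw [← Linear.comp_smul, ← hc, cokernel.condition_assoc, Limits.zero_comp]
      exact (smul_eq_zero.mp h2).resolve_left hc0
    obtain ⟨t, ht⟩ : ∃ t, t ≫ a' = a := ⟨Abelian.monoLift a' a h1, Abelian.monoLift_comp a' a h1⟩
    obtain ⟨d, rfl⟩ := end_scalar (L := Twist.twistProjSpace n k (-1)) (isInvertible_tw (-1)) t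
    have hd : d ≠ 0 := fun h0 => by
      rw [h0, zero_smul, Limits.zero_comp] at ht
      exact not_isZero_tw (n := n) (k := k) (-1)
        (show IsZero (Twist.twistProjSpace n k (-1)) from IsZero.of_mono_eq_zero a ht.symm)
    refine ⟨d⁻¹, inv_ne_zero hd, ?_⟩
    rw [← ht, Linear.smul_comp, Category.id_comp, smul_smul, inv_mul_cancel₀ hd, one_smul]
  · rintro ⟨c, hc, rfl⟩
    let s : Twist.twistProjSpace n k (-1) ≅ Twist.twistProjSpace n k (-1) :=
      ⟨c • 𝟙 _, c⁻¹ • 𝟙 _, by rw [Linear.comp_smul, Category.comp_id, smul_smul, inv_mul_cancel₀ hc, one_smul],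
        by rw [Linear.comp_smul, Category.comp_id, smul_smul, mul_inv_cancel₀ hc, one_smul]⟩
    refine ⟨(cokernel.mapIso (c • a) a s (Iso.refl _) ?_).symm⟩
    simp [s]

end Groth.Agent.Lib.PnOmega
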