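import Groth.Agent.Lib.PnOmega.Hom
import Groth.Agent.Lib.ProjCoh.Homog
import Groth.Agent.Lib.TensorMod.Pullback
import Groth.Agent.Lib.KVec.Pull
import Groth.Agent.Lib.DescAlg.PbSecHom

/-!
# `Ω` of `P^n` on linear subspaces
-/

set_option autoImplicit false
set_option linter.style.haveILetI false
universe u

open CategoryTheory CategoryTheory.Limits AlgebraicGeometry
open CategoryTheory.Abelian
open ZarCoh.FlatBC.PullbackSections

noncomputable section

namespace Groth.Agent.Lib.PnOmega

open Groth.Agent.Lib TensorMod.Basic ProjCoh ProjCoh.Coherent Modules.Free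
open Groth.Agent.Lib.CurveBundle

variable {m : ℕ} {k : Type u} [Field k]

theorem one_ne_zero_section' {X : Scheme.{u}} [Nonempty X] :
    (𝟙 (Coh.structureModule X) : Coh.structureModule X ⟶ _) ≠ 0 := fun h => by
  obtain ⟨x⟩ := ‹Nonempty X›
  have h1 : (1 : Γ(X, ⊤)) = 0 := congrArg (fun φ : Coh.structureModule X ⟶ Coh.structureModule X =>
    (φ.app ⊤ (1 : Γ(X, ⊤)) : Γ(X, ⊤))) h
  have h2 := congrArg (X.presheaf.germ ⊤ x trivial) h1
  rw [map_one, map_zero] at h2
  exact one_ne_zero h2

/-- The map of free modules given by a linear map. -/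
def matHom {a b : ℕ} (L : (Fin a → k) →ₗ[k] (Fin b → k)) :
    FlatMod.freeMod (CohB1.ProjSpace m k) a ⟶ FlatMod.freeMod (CohB1.ProjSpace m k) b :=
  Sigma.desc fun i => ∑ j, L (Pi.single i 1) j •
    Sigma.ι (fun _ : Fin b => Coh.structureModule (CohB1.ProjSpace m k)) j

theorem ι_matHom {a b : ℕ} (L : (Fin a → k) →ₗ[k] (Fin b → k)) (i : Fin a) :
    Sigma.ι (fun _ : Fin a => Coh.structureModule (CohB1.ProjSpace m k)) i ≫ matHom L =
      ∑ j, L (Pi.single i 1) j • Sigma.ι (fun _ : Fin b => Coh.structureModule (CohB1.ProjSpace m k)) j :=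
  Sigma.ι_desc _ i

theorem matHom_comp {a b c : ℕ} (L : (Fin a → k) →ₗ[k] (Fin b → k)) (M : (Fin b → k) →ₗ[k] (Fin c → k)) :
    matHom (m := m) L ≫ matHom M = matHom (M ∘ₗ L) := Sigma.hom_ext _ _ fun i => by
  classical
  have h := pi_eq_sum_univ' (L (Pi.single i 1))
  rw [ι_matHom, ← Category.assoc, ι_matHom, Preadditive.sum_comp]
  simp only [Linear.smul_comp, ι_matHom, Finset.smul_sum, smul_smul]
  rw [Finset.sum_comm]
  refine Finset.sum_congr rfl fun l _ => ?_
  rw [← Finset.sum_smul, LinearMap.comp_apply]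
  conv_rhs => rw [h]
  simp [map_sum]

theorem matHom_id {a : ℕ} : matHom (m := m) (k := k) (LinearMap.id : (Fin a → k) →ₗ[k] _) = 𝟙 _ :=
  Sigma.hom_ext _ _ fun i => by
    classical
    rw [ι_matHom, Category.comp_id, Finset.sum_eq_single i (fun j _ hj => by simp [hj])
      (fun h => absurd (Finset.mem_univ i) h)]
    simp

theorem matHom_add {a b : ℕ} (L M : (Fin a → k) →ₗ[k] (Fin b → k)) :
    matHom (m := m) (L + M) = matHom L + matHom M := Sigma.hom_ext _ _ fun i => by
  rw [Preadditive.comp_add, ι_matHom, ι_matHom, ι_matHom, ← Finset.sum_add_distrib]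
  simp [add_smul]

theorem matHom_zero {a b : ℕ} : matHom (m := m) (k := k) (0 : (Fin a → k) →ₗ[k] (Fin b → k)) = 0 :=
  Sigma.hom_ext _ _ fun i => by simp [ι_matHom]

variable (v : Fin (m + 1) → Γ(Twist.twistProjSpace m k 1, ⊤))

theorem sum_unitHom_app (c : Fin (m + 1) → k) :
    (∑ j, c j • unitHom _ (v j)).app ⊤ (1 : Γ(CohB1.ProjSpace m k, ⊤)) = ∑ j, cst m k (c j) • v j := by
  let ev : (Coh.structureModule (CohB1.ProjSpace m k) ⟶ Twist.twistProjSpace m k 1) →+
      Γ(Twist.twistProjSpace m k 1, ⊤) :=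
    AddMonoidHom.mk' (fun φ => φ.app ⊤ (1 : Γ(CohB1.ProjSpace m k, ⊤))) fun a a' => rfl
  refine (map_sum ev _ _).trans (Finset.sum_congr rfl fun j _ => ?_)
  refine (KLin.smul_app_apply (c j) (unitHom _ (v j)) ⊤ _).trans ?_
  refine congrArg₂ (fun (r : Γ(CohB1.ProjSpace m k, ⊤)) (x : Γ(Twist.twistProjSpace m k 1, ⊤)) => r • x) ?_
    (unitHom_app_one _ _)
  simp [cst, Subsingleton.elim (homOfLE (le_top (a := (⊤ : (CohB1.ProjSpace m k).Opens)))) (𝟙 _)]
  rfl

theorem finrank_hom : Module.finrank k (Coh.structureModule (CohB1.ProjSpace m k) ⟶ Twist.twistProjSpace m k 1) = m + 1 := by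
  haveI : HasExt.{u} (CohB1.ProjSpace m k).Modules := inferInstance
  obtain ⟨e₁⟩ := Homog.nonempty_HH_zero_equiv m 1 k
  obtain ⟨e₂⟩ := Homog.nonempty_homog_equiv m 1 k
  let e : (Coh.structureModule (CohB1.ProjSpace m k) ⟶ Twist.twistProjSpace m k 1) ≃ₗ[k] (Homog.Expn m 1 → k) :=
    (Linear.homCongr k (Iso.refl _) (twIso (n := m) (R := k) 1)) ≪≫ₗ (Ext.linearEquiv₀ (R := k)).symm ≪≫ₗ
      ExtHH.Basic.extUnitEquiv k _ 0 ≪≫ₗ e₁ ≪≫ₗ e₂.symm
  haveI := Fintype.ofFinite (Homog.Expn m 1)
  rw [e.finrank_eq, Module.finrank_fintype_fun_eq_card]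
  let f : Fin (m + 1) → Homog.Expn m 1 := fun j => ⟨Finsupp.single j 1, by simp⟩
  have hf : Function.Bijective f := by
    refine ⟨fun a b h => Finsupp.single_left_injective one_ne_zero (congrArg Subtype.val h), fun s => ?_⟩
    obtain ⟨j, hj⟩ : ∃ j, s.1 = Finsupp.single j 1 := (Set.ext_iff.mp (Finsupp.range_single_one (σ := Fin (m + 1))) s.1).mpr s.2 |>.imp fun _ h => h.symm
    exact ⟨j, Subtype.ext hj.symm⟩
  exact (Fintype.card_of_bijective hf).symm.trans (Fintype.card_fin _)

variable (hv : ∀ c : Fin (m + 1) → k, ∑ i, cst m k (c i) • v i = 0 → c = 0)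

include hv in
theorem exists_matHom {a : ℕ} (φ : FlatMod.freeMod (CohB1.ProjSpace m k) a ⟶ Twist.twistProjSpace m k 1) :
    ∃ L : (Fin a → k) →ₗ[k] (Fin (m + 1) → k), φ = matHom L ≫ freeHom v := by
  classical
  let V : (Fin (m + 1) → k) →ₗ[k] (Coh.structureModule (CohB1.ProjSpace m k) ⟶ Twist.twistProjSpace m k 1) :=
    Fintype.linearCombination k fun j => unitHom _ (v j)
  have hV : ∀ c, V c = ∑ j, c j • unitHom _ (v j) := fun c => by simp [V, Fintype.linearCombination_apply]
  have hinj : Function.Injective V := (injective_iff_map_eq_zero V).mpr fun c hc => hv c (by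
    rw [← sum_unitHom_app, ← hV, hc]
    rfl)
  haveI : Module.Finite k (Coh.structureModule (CohB1.ProjSpace m k) ⟶ Twist.twistProjSpace m k 1) :=
    Module.finite_of_finrank_pos (by rw [finrank_hom]; omega)
  have hsurj : Function.Surjective V :=
    (LinearMap.injective_iff_surjective_of_finrank_eq_finrank
      (by rw [Module.finrank_fin_fun, finrank_hom])).1 hinj
  choose c hc using fun i : Fin a => hsurj
    (Sigma.ι (fun _ : Fin a => Coh.structureModule (CohB1.ProjSpace m k)) i ≫ φ)
  refine ⟨Fintype.linearCombination k c, Sigma.hom_ext _ _ fun i => ?_⟩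
  rw [← hc i, hV, ← Category.assoc, ι_matHom, Preadditive.sum_comp]
  refine Finset.sum_congr rfl fun j _ => ?_
  rw [Linear.smul_comp, freeHom, Sigma.ι_desc, Fintype.linearCombination_apply_single, one_smul]

/-- Restriction of `Ω(1)`. -/
theorem nonempty_pullback_kernel {n : ℕ} (i : CohB1.ProjSpace m k ⟶ CohB1.ProjSpace n k)
    (e : (Scheme.Modules.pullback i).obj (Twist.twistProjSpace n k 1) ≅ Twist.twistProjSpace m k 1) :
    Nonempty ((Scheme.Modules.pullback i).obj
        (CohB1.tensorMod (Omega.sheaf (CohB1.ProjSpace.toSpec n k)) (Twist.twistProjSpace n k 1)) ≅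
      CohB1.tensorMod (Omega.sheaf (CohB1.ProjSpace.toSpec m k)) (Twist.twistProjSpace m k 1) ⊞
        FlatMod.freeMod (CohB1.ProjSpace m k) (n - m)) := by
  classical
  obtain ⟨u, hu, hun, ⟨iu⟩⟩ := exists_euler n k
  obtain ⟨v, hve, hpt, ⟨iv⟩⟩ := exists_euler' m k
  haveI := hu; haveI := hve
  have hv : ∀ c : Fin (m + 1) → k, ∑ i, cst m k (c i) • v i = 0 → c = 0 := fun c hc => funext fun j => by
    obtain ⟨h, ε, hε⟩ := hpt (Pi.single j 1) (fun h0 => one_ne_zero (α := k) (by simpa using congrFun h0 j))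
    have h2 := hε c
    rw [hc, map_zero, map_zero, Finset.sum_eq_single j (fun i _ hi => by simp [hi])
      (fun hj => absurd (Finset.mem_univ j) hj), Pi.single_eq_same, mul_one] at h2
    exact (ConcreteCategory.bijective_of_isIso (Scheme.ΓSpecIso (CommRingCat.of k)).inv).1
      (h2.symm.trans (map_zero _).symm)
  haveI := (Scheme.Modules.pullbackPushforwardAdjunction i).leftAdjoint_preservesColimits
  -- the pulled back sequence
  have hS := KVec.Pull.shortExact_pullback i (eulerSeq_shortExact u)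
    (TensorMod.LocFree.of_rank (TensorMod.LocFree.of_isInvertible (isInvertible_tw (n := n) (R := k) 1)))
  let j : FlatMod.freeMod (CohB1.ProjSpace m k) (n + 1) ≅
      (Scheme.Modules.pullback i).obj (FlatMod.freeMod (CohB1.ProjSpace n k) (n + 1)) :=
    (PreservesCoproduct.iso (Scheme.Modules.pullback i) _ ≪≫
      Sigma.mapIso fun _ => PicLoc.pullbackStructureIso i).symm
  let φ := j.hom ≫ (Scheme.Modules.pullback i).map (freeHom u) ≫ e.hom
  haveI : Epi ((Scheme.Modules.pullback i).map (freeHom u)) := hS.epi_g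
  haveI : Epi φ := inferInstance
  let iK : (Scheme.Modules.pullback i).obj (kernel (freeHom u)) ≅ kernel φ :=
    (IsLimit.conePointUniqueUpToIso hS.fIsKernel (kernelIsKernel _)) ≪≫
      (kernel.mapIso φ ((Scheme.Modules.pullback i).map (freeHom u)) j e.symm (by simp [φ])).symm
  obtain ⟨L, hL⟩ := exists_matHom v hv φ
  -- `L` is surjective
  have hsurj : LinearMap.range L = ⊤ := by
    by_contra hne
    obtain ⟨f, hf0, hf⟩ := Submodule.exists_dual_map_eq_bot_of_lt_top (lt_top_iff_ne_top.mpr hne) inferInstance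
    have hfL : ∀ x, f (L x) = 0 := fun x => by
      have := Submodule.mem_map_of_mem (f := f) (LinearMap.mem_range_self L x)
      rwa [hf, Submodule.mem_bot] at this
    let b : Fin (m + 1) → k := fun j => f (Pi.single j 1)
    have hfb : ∀ x, f x = ∑ j, x j * b j := fun x => by
      conv_lhs => rw [pi_eq_sum_univ' x]
      simp [b]
    obtain ⟨h, ε, hε⟩ := hpt b fun h0 => hf0 (LinearMap.ext fun x => by simp [hfb, h0])
    haveI := (Scheme.Modules.pullbackPushforwardAdjunction h).leftAdjoint_preservesColimits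
    have hz : (Scheme.Modules.pullback h).map φ ≫ ε.hom = 0 := by
      refine Cyc.PB.Sect.hom_ext_basis h (U := ⊤) (hg := le_top) (TensorMod.Basis.isBasis_freeMod _ _) fun i' => ?_
      show ε.hom.app ⊤ (((Scheme.Modules.pullback h).map φ).app ⊤ (pbRes h _ le_top (gen _ i'))) = 0
      refine (congrArg (ε.hom.app ⊤) (DescAlg.PbSec.pbRes_natural h φ le_top (gen _ i'))).trans ?_
      have e1 : φ.app ⊤ (gen (CohB1.ProjSpace m k) i') = ∑ j, cst m k (L (Pi.single i' 1) j) • v j := by
        rw [← sum_unitHom_app, hL]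
        refine congrArg (fun ψ : Coh.structureModule (CohB1.ProjSpace m k) ⟶ Twist.twistProjSpace m k 1 =>
          ψ.app ⊤ (1 : Γ(CohB1.ProjSpace m k, ⊤))) (a₁ := Sigma.ι _ i' ≫ matHom L ≫ freeHom v) ?_
        rw [← Category.assoc, ι_matHom, Preadditive.sum_comp]
        refine Finset.sum_congr rfl fun j _ => ?_
        rw [Linear.smul_comp, freeHom, Sigma.ι_desc]
      rw [e1]
      refine (hε _).trans ?_
      rw [← hfb, hfL]
      exact map_zero _
    haveI : Epi ((Scheme.Modules.pullback h).map φ) := inferInstance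
    haveI : Nonempty (Spec (CommRingCat.of k)) := inferInstanceAs (Nonempty (PrimeSpectrum k))
    refine one_ne_zero_section' (X := Spec (CommRingCat.of k)) ?_
    rw [← ε.inv_hom_id, (cancel_epi _).1 (hz.trans Limits.comp_zero.symm), Limits.comp_zero]
  -- splitting
  obtain ⟨R, hR⟩ := L.exists_rightInverse_of_surjective hsurj
  have hdim : Module.finrank k (LinearMap.ker L) = n - m := by
    have := L.finrank_range_add_finrank_ker
    rw [hsurj, finrank_top, Module.finrank_fin_fun, Module.finrank_fin_fun] at this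
    omega
  let bK := Module.finBasisOfFinrankEq k (LinearMap.ker L) hdim
  let J : (Fin (n - m) → k) →ₗ[k] (Fin (n + 1) → k) := (LinearMap.ker L).subtype ∘ₗ bK.equivFun.symm.toLinearMap
  let Pr : (Fin (n + 1) → k) →ₗ[k] LinearMap.ker L :=
    (LinearMap.id - R ∘ₗ L).codRestrict _ fun x => by
      have := LinearMap.congr_fun hR (L x)
      simp at this
      simp [this]
  let P₂ : (Fin (n + 1) → k) →ₗ[k] (Fin (n - m) → k) := bK.equivFun.toLinearMap ∘ₗ Pr
  have hLJ : L ∘ₗ J = 0 := LinearMap.ext fun x => (bK.equivFun.symm x).2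
  have hPJ : P₂ ∘ₗ J = LinearMap.id := LinearMap.ext fun x => by
    have e1 : Pr (J x) = bK.equivFun.symm x := Subtype.ext (by
      show J x - R (L (J x)) = _
      rw [show L (J x) = 0 from (bK.equivFun.symm x).2, map_zero, sub_zero]
      rfl)
    show bK.equivFun (Pr (J x)) = x
    rw [e1, LinearEquiv.apply_symm_apply]
  have hPR : P₂ ∘ₗ R = 0 := LinearMap.ext fun x => by
    have e1 : Pr (R x) = 0 := Subtype.ext (by
      show R x - R (L (R x)) = 0
      rw [show L (R x) = x from LinearMap.congr_fun hR x, sub_self])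
    simp [P₂, e1]
  have htot : R ∘ₗ L + J ∘ₗ P₂ = LinearMap.id := LinearMap.ext fun x => by
    show R (L x) + ((bK.equivFun.symm (bK.equivFun (Pr x))) : Fin (n + 1) → k) = x
    rw [LinearEquiv.symm_apply_apply]
    show R (L x) + (x - R (L x)) = x
    abel
  have c1 : matHom (m := m) R ≫ matHom L = 𝟙 _ := by rw [matHom_comp, hR, matHom_id]
  have c2 : matHom (m := m) J ≫ matHom L = 0 := by rw [matHom_comp, hLJ, matHom_zero]
  have c3 : matHom (m := m) J ≫ matHom P₂ = 𝟙 _ := by rw [matHom_comp, hPJ, matHom_id]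
  have c4 : matHom (m := m) R ≫ matHom P₂ = 0 := by rw [matHom_comp, hPR, matHom_zero]
  have c5 : matHom (m := m) L ≫ matHom R + matHom P₂ ≫ matHom J = 𝟙 _ := by
    rw [matHom_comp, matHom_comp, ← matHom_add, htot, matHom_id]
  let iφ : kernel φ ≅ kernel (freeHom v) ⊞ FlatMod.freeMod (CohB1.ProjSpace m k) (n - m) :=
    { hom := biprod.lift (kernel.lift _ (kernel.ι φ ≫ matHom L)
          (by rw [Category.assoc, ← hL, kernel.condition])) (kernel.ι φ ≫ matHom P₂)
      inv := biprod.desc (kernel.lift _ (kernel.ι (freeHom v) ≫ matHom R)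
          (by rw [hL, Category.assoc, reassoc_of% c1, kernel.condition]))
          (kernel.lift _ (matHom J) (by rw [hL, reassoc_of% c2, Limits.zero_comp]))
      hom_inv_id := by
        rw [biprod.lift_desc, ← cancel_mono (kernel.ι φ), Category.id_comp]
        simp only [Preadditive.add_comp, Category.assoc, kernel.lift_ι, kernel.lift_ι_assoc]
        rw [← Preadditive.comp_add, c5, Category.comp_id]
      inv_hom_id := by
        apply biprod.hom_ext' <;> apply biprod.hom_ext
        · rw [← cancel_mono (kernel.ι (freeHom v))]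
          simp [c1]
        · simp [c4]
        · rw [← cancel_mono (kernel.ι (freeHom v))]
          simp [c2]
        · simp [c3] }
  exact ⟨(Scheme.Modules.pullback i).mapIso iu ≪≫ iK ≪≫ iφ ≪≫ biprod.mapIso iv.symm (Iso.refl _)⟩

/-- Restriction of `Ω`. -/
theorem nonempty_pullback_omega {n : ℕ} (i : CohB1.ProjSpace m k ⟶ CohB1.ProjSpace n k)
    (e : (Scheme.Modules.pullback i).obj (Twist.twistProjSpace n k 1) ≅ Twist.twistProjSpace m k 1) :
    Nonempty ((Scheme.Modules.pullback i).obj (Omega.sheaf (CohB1.ProjSpace.toSpec n k)) ≅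
      Omega.sheaf (CohB1.ProjSpace.toSpec m k) ⊞
        ∐ fun _ : Fin (n - m) => Twist.twistProjSpace m k (-1)) := by
  obtain ⟨φ⟩ := nonempty_pullback_kernel i e
  let T := Twist.twistProjSpace m k (-1)
  haveI := GP.additive_tensorBy T
  haveI : PreservesBinaryBiproducts (tensorBy T) := preservesBinaryBiproducts_of_preservesBiproducts _
  let N := CurveBundle.Twist.cancelNat (twCancel (n := m) (R := k) 1 (-1) (by norm_num))
  let a := (TensorMod.Pullback.pullbackTensorIso i (Omega.sheaf (CohB1.ProjSpace.toSpec n k))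
    (Twist.twistProjSpace n k 1)) ≪≫ tensorIso (Iso.refl _) e
  let f : (tensorBy T).obj (FlatMod.freeMod (CohB1.ProjSpace m k) (n - m)) ≅ ∐ fun _ : Fin (n - m) => T :=
    PreservesCoproduct.iso (tensorBy T) (fun _ : Fin (n - m) => Coh.structureModule (CohB1.ProjSpace m k)) ≪≫
      Sigma.mapIso fun _ => leftUnit T
  exact ⟨(N.app _).symm ≪≫ (tensorBy T).mapIso (a.symm ≪≫ φ) ≪≫ (tensorBy T).mapBiprod _ _ ≪≫
    biprod.mapIso (N.app _) f⟩

end Groth.Agent.Lib.PnOmega
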