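import Groth.Agent.Lib.PnOmega.NullCorr
import Groth.Agent.Lib.ProjCoh.Horrocks

/-!
# A nonzero map `O(-1) ⟶ O`
-/

set_option autoImplicit false
set_option linter.style.haveILetI false
universe u

open CategoryTheory CategoryTheory.Limits AlgebraicGeometry

noncomputable section

namespace Groth.Agent.Lib.PnOmega

open Groth.Agent.Lib TensorMod.Basic ProjCoh ProjCoh.Coherent CurveBundle

variable {n : ℕ} {k : Type u} [Field k]

theorem indep_ne_zero {v : Fin (n + 1) → Γ(Twist.twistProjSpace n k 1, ⊤)}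
    (hv : ∀ c : Fin (n + 1) → k, ∑ i, cst n k (c i) • v i = 0 → c = 0) : v 0 ≠ 0 := by
  classical
  intro h0
  have hsum : ∑ i, cst n k ((Pi.single 0 1 : Fin (n + 1) → k) i) • v i = 0 := by
    refine Finset.sum_eq_zero fun i _ => ?_
    rcases eq_or_ne i 0 with rfl | hi
    · rw [h0, smul_zero]
    · rw [Pi.single_eq_of_ne hi]
      exact (congrArg (fun z : Γ(CohB1.ProjSpace n k, ⊤) => z • v i) (show cst n k 0 = 0 from map_zero (Coh.toGlobal (CohB1.ProjSpace.toSpec n k)))).trans (zero_smul _ _)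
  have h := congrFun (hv _ hsum) 0
  simp at h

theorem unitHom_ne_zero {X : Scheme.{u}} {M : X.Modules} {s : Γ(M, ⊤)} (hs : s ≠ 0) :
    Modules.Free.unitHom M s ≠ 0 := fun h => hs
  ((Modules.Free.unitHom_app_one M s).symm.trans
    (congrArg (fun f : Coh.structureModule X ⟶ M => f.app ⊤ (1 : Γ(X, ⊤))) h))

theorem eq_zero_of_tmap {X : Scheme.{u}} {N : X.Modules} (hN : PicF.IsInvertible N) {A B : X.Modules}
    (f : A ⟶ B) (h : tmap f (𝟙 N) = 0) : f = 0 := by
  haveI : (tensorBy N).IsEquivalence := CurveBundle.Twist.isEquivalence hN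
  haveI : (tensorBy N).Additive := GP.additive_tensorBy _
  apply (tensorBy N).map_injective
  rw [Functor.map_zero]
  exact h

theorem map_unit_ne_zero {X : Scheme.{u}} {N L M : X.Modules} (hN : PicF.IsInvertible N)
    (f : Coh.structureModule X ⟶ L) (hf : f ≠ 0) (e : CohB1.tensorMod L N ≅ M) :
    (leftUnit N).inv ≫ tmap f (𝟙 N) ≫ e.hom ≠ 0 := fun h =>
  hf (eq_zero_of_tmap hN f
    ((cancel_mono e.hom).1 (((cancel_epi (leftUnit N).inv).1 (h.trans comp_zero.symm)).trans zero_comp.symm)))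

theorem exists_mono_twNegOne (n : ℕ) (k : Type u) [Field k] :
    ∃ ν : Twist.twistProjSpace n k (-1) ⟶ Coh.structureModule (CohB1.ProjSpace n k), Mono ν := by
  obtain ⟨v, -, hv, -⟩ := exists_euler n k
  have hne := map_unit_ne_zero (L := tw n k 1) (isInvertible_tw (n := n) (R := k) (-1))
    (Modules.Free.unitHom (tw n k 1) (v 0)) (unitHom_ne_zero (indep_ne_zero hv)) (twTensor 1 (-1))
  refine ⟨((leftUnit (tw n k (-1))).inv ≫ tmap (Modules.Free.unitHom (tw n k 1) (v 0)) (𝟙 (tw n k (-1))) ≫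
      (twTensor (n := n) (R := k) 1 (-1)).hom) ≫ (twZero (n := n) (R := k)).hom, ?_⟩
  haveI := Horrocks.mono_of_ne_zero (isInvertible_tw (-1)) (isInvertible_tw 0) hne
  exact @mono_comp _ _ _ _ _ _ this (twZero (n := n) (R := k)).hom inferInstance

end Groth.Agent.Lib.PnOmega
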