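import Groth.Agent.Lib.ProjSpace.IsBundle
import Groth.Agent.Lib.EulerSeq.Map
import Groth.Agent.Lib.FundLocal.Rank
import Groth.Agent.Lib.Kaehler.DOmega
import Groth.Agent.Lib.Modules.Free
import Groth.Agent.Lib.ProjCoh.GlobalFun
import Groth.Agent.Lib.CurveBundle.EndAlg

/-!
# The Euler sequence on `P^n_k`

`Ω(1)` is the kernel of `O^{n+1} ⟶ O(1)` given by `n + 1` independent generating sections.
-/

set_option autoImplicit false
set_option linter.style.haveILetI false
universe u

open CategoryTheory CategoryTheory.Limits AlgebraicGeometry TopologicalSpace Opposite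
open ZarCoh.FlatBC.PullbackSections

noncomputable section

namespace Groth.Agent.Lib.PnOmega

open Groth.Agent.Lib TensorMod TensorMod.Basic TensorMod.Dual TensorMod.Gen TensorMod.Basis
open Groth.Agent.Lib.Cyc.PB Modules.Free

/-- The map out of a free module given by a basis is an isomorphism. -/
theorem isIso_freeHom {X : Scheme.{u}} {M : X.Modules} {r : ℕ} {s : Fin r → Γ(M, ⊤)} (hs : IsBasis s) :
    IsIso (freeHom s) := by
  haveI : ∀ U, IsIso ((freeHom s).app U) := fun U => by
    refine (ConcreteCategory.isIso_iff_bijective _).mpr ?_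
    have hg := (isBasis_freeMod (X := X) (n := r)) U le_top
    refine (Function.Bijective.of_comp_iff _ hg).mp ?_
    have e : (freeHom s).app U ∘ comb (gen X : Fin r → _) (le_top : U ≤ ⊤) = comb s le_top := funext fun a => by
      rw [Function.comp_apply, app_comb]
      simp only [freeHom_app_gen]
    rw [e]
    exact hs U le_top
  exact Scheme.Modules.Hom.isIso_iff_isIso_app.mpr inferInstance

variable (n : ℕ) (k : Type u) [Field k]

/-- The constant functions. -/
abbrev cst (c : k) : Γ(CohB1.ProjSpace n k, ⊤) := Coh.toGlobal (CohB1.ProjSpace.toSpec n k) c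

theorem cst_bijective : Function.Bijective (cst n k) := ProjCoh.GlobalFun.toGlobal_bijective n k

/-- The Euler sequence, with the rational points. -/
theorem exists_euler' : ∃ v : Fin (n + 1) → Γ(Twist.twistProjSpace n k 1, ⊤),
    Epi (freeHom v) ∧
    (∀ b : Fin (n + 1) → k, b ≠ 0 → ∃ (h : Spec (CommRingCat.of k) ⟶ CohB1.ProjSpace n k)
      (ε : (Scheme.Modules.pullback h).obj (Twist.twistProjSpace n k 1) ≅
        Coh.structureModule (Spec (CommRingCat.of k))), ∀ c : Fin (n + 1) → k,
        ε.hom.app ⊤ (pbRes h (Twist.twistProjSpace n k 1) le_top (∑ i, cst n k (c i) • v i)) =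
          ((Scheme.ΓSpecIso (CommRingCat.of k)).inv (∑ i, c i * b i) : Γ(Spec (CommRingCat.of k), ⊤))) ∧
    Nonempty (CohB1.tensorMod (Omega.sheaf (CohB1.ProjSpace.toSpec n k)) (Twist.twistProjSpace n k 1) ≅
      kernel (freeHom v)) := by
  classical
  haveI := ProjSpace.Basic.isProper_toSpec n k
  let p := CohB1.ProjSpace.toSpec n k
  let O1 := Twist.twistProjSpace n k 1
  let F := FlatMod.freeMod (Spec (CommRingCat.of k)) (n + 1)
  obtain ⟨q, hq⟩ := ProjSpace.IsBundle.exists_isProjBundle n k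
  have hfree : F.IsQuasicoherent := CurveBundle.Coherent.isQCoh_freeMod _ _
  let e := ProjSpace.IsBundle.e n k
  have hb : IsBasis (fun i => pbRes p F le_top (e i)) :=
    EulerSeq.Frame.isBasis_pbRes (π := p) hfree (isAffineOpen_top _) (ProjSpace.IsBundle.isBasis_e n k)
  haveI hiso := isIso_freeHom hb
  haveI : Epi q := hq.epi
  let v : Fin (n + 1) → Γ(O1, ⊤) := fun i => q.app ⊤ (pbRes p F le_top (e i))
  have hv : freeHom v = freeHom (fun i => pbRes p F le_top (e i)) ≫ q := (freeHom_comp _ q).symm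
  refine ⟨v, ?_, fun b hb0 => ?_, ?_⟩
  · rw [hv]
    exact @epi_comp _ _ _ _ _ _ (@IsIso.epi_of_iso _ _ _ _ _ hiso) q hq.epi
  · -- evaluate at a rational point
    let T := Spec (CommRingCat.of k)
    let g : T ⟶ T := 𝟙 T
    let C : k →+* Γ(T, ⊤) := (Scheme.ΓSpecIso (CommRingCat.of k)).inv.hom
    obtain ⟨j, hj⟩ := Function.ne_iff.mp hb0
    obtain ⟨s, hs⟩ := Sect.exists_hom_basis g (U := ⊤) (hg := le_top) (ProjSpace.IsBundle.isBasis_e n k)
      (N := Coh.structureModule T) (fun i => C (b i))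
    let m : Γ((Scheme.Modules.pullback g).obj F, ⊤) := C (b j)⁻¹ • pbRes g F le_top (e j)
    have hsec : unitHom _ m ≫ s = 𝟙 (Coh.structureModule T) := unitHom_ext (by
      show s.app ⊤ ((unitHom _ m).app ⊤ (1 : Γ(T, ⊤))) = _
      rw [unitHom_app_one]
      refine (Scheme.Modules.Hom.app_smul s _ _).trans ?_
      refine (congrArg (fun x : Γ(Coh.structureModule T, ⊤) => C (b j)⁻¹ • x) (hs j)).trans ?_
      refine ((map_mul C _ _).symm.trans ?_ : (C (b j)⁻¹ * C (b j) : Γ(T, ⊤)) = _)
      rw [inv_mul_cancel₀ hj, map_one]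
      rfl)
    haveI : Epi s := (SplitEpi.mk _ hsec).epi
    obtain ⟨h, ⟨hg, ε, hε⟩, -⟩ := hq.univ T g (Coh.structureModule T)
      (TensorMod.LocFree.of_isInvertible (PicLoc.isInvertible_structureModule T)) s inferInstance
    refine ⟨h, ε, fun c => ?_⟩
    have hU : (⊤ : T.Opens) ≤ g ⁻¹ᵁ ⊤ := le_top
    have h1 : ∀ i, ε.hom.app ⊤ (pbRes h O1 le_top (v i)) = s.app ⊤ (pbRes g F hU (e i)) := fun i => by
      rw [← hε, Univ.classify_app e hg hU]
      rfl
    let evH : Γ(O1, ⊤) →+ Γ(Coh.structureModule T, ⊤) :=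
      AddMonoidHom.mk' (fun x => ε.hom.app ⊤ (pbRes h O1 le_top x)) fun a b => by simp only [map_add]
    have hev : ∀ (r : k) (x : Γ(O1, ⊤)), evH (cst n k r • x) = C r • evH x := fun r x => by
      show ε.hom.app ⊤ (pbRes h O1 le_top (cst n k r • x)) = _
      erw [pbRes_smul, Scheme.Modules.Hom.app_smul]
      refine congrArg (· • _) ?_
      show h.appLE ⊤ (h ⁻¹ᵁ ⊤) le_rfl (p.appTop ((Scheme.ΓSpecIso (CommRingCat.of k)).inv r)) = _
      rw [Scheme.Hom.appLE_eq_app]
      show (p.appTop ≫ h.appTop) _ = _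
      rw [← Scheme.Hom.comp_appTop, hg]
      rfl
    refine (map_sum evH _ _).trans (Eq.trans ?_ (map_sum C (fun i => c i * b i) Finset.univ).symm)
    refine Finset.sum_congr rfl fun i _ => ?_
    rw [hev, show evH (v i) = C (b i) from (h1 i).trans (hs i), map_mul]
    rfl
  · obtain ⟨i⟩ := EulerSeq.Map.nonempty_iso (q := q) (OmegaSh.dOmega p) hfree
      (fun x => EulerSeq.Map.exists_frame hq (TensorMod.LocFree.of_rank
        (TensorMod.LocFree.isFinLocFree_freeMod _ _)) x) (Kaehler.DOmega.isUniversal_dOmega p) hq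
    exact ⟨i ≪≫ (kernel.mapIso (freeHom v) q (@asIso _ _ _ _ _ hiso) (Iso.refl _)
      ((Category.comp_id _).trans hv)).symm⟩

/-- The Euler sequence. -/
theorem exists_euler : ∃ v : Fin (n + 1) → Γ(Twist.twistProjSpace n k 1, ⊤),
    Epi (freeHom v) ∧ (∀ c : Fin (n + 1) → k, ∑ i, cst n k (c i) • v i = 0 → c = 0) ∧
    Nonempty (CohB1.tensorMod (Omega.sheaf (CohB1.ProjSpace.toSpec n k)) (Twist.twistProjSpace n k 1) ≅
      kernel (freeHom v)) := by
  classical
  obtain ⟨v, he, hpt, hK⟩ := exists_euler' n k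
  refine ⟨v, he, fun c hc => funext fun j => ?_, hK⟩
  obtain ⟨h, ε, hε⟩ := hpt (Pi.single j 1) (fun h0 => one_ne_zero (α := k) (by simpa using congrFun h0 j))
  have h2 := hε c
  rw [hc, map_zero, map_zero, Finset.sum_eq_single j (fun i _ hi => by simp [hi])
    (fun hj => absurd (Finset.mem_univ j) hj), Pi.single_eq_same, mul_one] at h2
  exact (ConcreteCategory.bijective_of_isIso (Scheme.ΓSpecIso (CommRingCat.of k)).inv).1
    (h2.symm.trans (map_zero _).symm)

end Groth.Agent.Lib.PnOmega
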