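import Groth.Agent.Lib.PnOmega.Euler
import Groth.Agent.Lib.ProjCoh.SerreDual
import Groth.Agent.Lib.CohDelta.KBC.Simple
import Groth.Agent.Lib.Cyc.CH.SubLine
import Groth.Agent.Lib.ProjSpace.Basic

/-!
# Morphisms of the sheaf of differentials of `P^n_k`
-/

set_option autoImplicit false
set_option linter.style.haveILetI false
universe u

open CategoryTheory CategoryTheory.Limits AlgebraicGeometry
open CategoryTheory.Abelian

noncomputable section

namespace Groth.Agent.Lib.PnOmega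

open Groth.Agent.Lib TensorMod.Basic ProjCoh ProjCoh.Coherent Modules.Free
open Groth.Agent.Lib.CurveBundle

/-- A map on the left end of a short exact sequence extends when `Ext¹` of the right end vanishes. -/
theorem exists_extend {C : Type*} [Category C] [Abelian C] [HasExt.{u} C] {S : ShortComplex C}
    (hS : S.ShortExact) {Y : C} (h : Subsingleton (Ext.{u} S.X₃ Y 1)) (f : S.X₁ ⟶ Y) :
    ∃ g : S.X₂ ⟶ Y, S.f ≫ g = f := by
  obtain ⟨x, hx⟩ := Ext.contravariant_sequence_exact₁ hS Y (Ext.mk₀ f) (add_zero 1)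
    (Subsingleton.elim _ _)
  obtain ⟨g, rfl⟩ := (Ext.mk₀_bijective _ _).2 x
  exact ⟨g, (Ext.mk₀_bijective _ _).1 ((Ext.mk₀_comp_mk₀ S.f g).symm.trans hx)⟩

variable {n : ℕ} {k : Type u} [Field k]

/-- Multiplication by a constant. -/
theorem smul_eq {M : (CohB1.ProjSpace n k).Modules} (c : k) :
    (SheafOfModules.toSheaf (CohB1.ProjSpace n k).ringCatSheaf).map (c • 𝟙 M) =
      Coh.smulAb M (Coh.toGlobal (CohB1.ProjSpace.toSpec n k) c) := by
  rw [KLin.smul_id]
  rfl

theorem end_scalar [IsAlgClosed k] {L : (CohB1.ProjSpace n k).Modules} (hL : PicF.IsInvertible L)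
    (f : L ⟶ L) : ∃ c : k, f = c • 𝟙 L := by
  haveI : IsProper (CohB1.ProjSpace n k ↘ Spec (CommRingCat.of k)) := ProjSpace.Basic.isProper_toSpec n k
  exact CohDelta.KBC.end_scalar k hL f

theorem subsingleton_ext_tw' [HasExt.{u} (CohB1.ProjSpace n k).Modules] {a b : ℤ}
    (h : -(n : ℤ) ≤ b - a) {q : ℕ} (hq : q ≠ 0) :
    Subsingleton (Ext.{u} (tw n k a) (tw n k b) q) :=
  SerreDual.subsingleton_ext_iso (twIso a) (twIso b) q (SerreDual.subsingleton_ext_TS h hq)

variable (v : Fin (n + 1) → Γ(Twist.twistProjSpace n k 1, ⊤))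

/-- The defining sequence. -/
def eulerSeq : ShortComplex (CohB1.ProjSpace n k).Modules :=
  ShortComplex.mk (kernel.ι (freeHom v)) (freeHom v) (kernel.condition _)

theorem eulerSeq_shortExact [Epi (freeHom v)] : (eulerSeq v).ShortExact :=
  { exact := ShortComplex.exact_kernel _, mono_f := inferInstanceAs (Mono (kernel.ι (freeHom v)))
    epi_g := by assumption }

variable (hv : ∀ c : Fin (n + 1) → k, ∑ i, cst n k (c i) • v i = 0 → c = 0)

include hv in
/-- `Ω(1)` has no global sections. -/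
theorem hom_unit_eq_zero (f : Coh.structureModule (CohB1.ProjSpace n k) ⟶ kernel (freeHom v)) : f = 0 := by
  rw [← cancel_mono (kernel.ι (freeHom v)), Limits.zero_comp]
  refine unitHom_ext ?_
  let m := (f ≫ kernel.ι (freeHom v)).app ⊤ (1 : Γ(CohB1.ProjSpace n k, ⊤))
  obtain ⟨a, ha⟩ := (TensorMod.Basis.isBasis_freeMod (X := CohB1.ProjSpace n k) (n := n + 1) ⊤ le_rfl).2 m
  choose c hc using fun i => (cst_bijective n k).2 (a i)
  have h0 : (freeHom v).app ⊤ m = 0 := by
    show ((f ≫ kernel.ι (freeHom v)) ≫ freeHom v).app ⊤ (1 : Γ(CohB1.ProjSpace n k, ⊤)) = 0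
    rw [Category.assoc, kernel.condition, Limits.comp_zero]
    rfl
  rw [← ha, TensorMod.Basis.app_comb] at h0
  have h1 := hv c (by
    refine Eq.trans ?_ h0
    refine Finset.sum_congr rfl fun i _ => ?_
    dsimp only
    rw [hc, freeHom_app_gen]
    exact congrArg (a i • ·) (map_top_top _ _ _).symm)
  show m = 0
  rw [← ha]
  refine Finset.sum_eq_zero fun i _ => ?_
  rw [← hc i, congrFun h1 i]
  have hz : cst n k (0 : k) = 0 := map_zero _
  show cst n k (0 : k) • _ = _
  rw [hz]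
  exact zero_smul _ _

include hv in
theorem hom_free_eq_zero {r : ℕ} (f : FlatMod.freeMod (CohB1.ProjSpace n k) r ⟶ kernel (freeHom v)) :
    f = 0 :=
  Sigma.hom_ext _ _ fun i => (hom_unit_eq_zero v hv _).trans (Limits.comp_zero).symm

include hv in
/-- Endomorphisms of `Ω(1)` are scalars. -/
theorem end_kernel_scalar [IsAlgClosed k] [Epi (freeHom v)] (hn : 1 ≤ n)
    (φ : kernel (freeHom v) ⟶ kernel (freeHom v)) : ∃ c : k, φ = c • 𝟙 _ := by
  classical
  haveI : HasExt.{u} (CohB1.ProjSpace n k).Modules := inferInstance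
  let P := CohB1.ProjSpace n k
  have hS := eulerSeq_shortExact v
  let π : Fin (n + 1) → (FlatMod.freeMod P (n + 1) ⟶ Coh.structureModule P) := fun b =>
    Sigma.desc fun j => if j = b then 𝟙 _ else 0
  let ι : Fin (n + 1) → (Coh.structureModule P ⟶ FlatMod.freeMod P (n + 1)) :=
    Sigma.ι fun _ : Fin (n + 1) => Coh.structureModule P
  have hid : ∑ b, π b ≫ ι b = 𝟙 _ := Sigma.hom_ext _ _ fun a => by
    rw [Preadditive.comp_sum, Category.comp_id]
    refine (Finset.sum_eq_single a (fun b _ hb => ?_) fun h => absurd (Finset.mem_univ a) h).trans ?_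
    · simp [π, Ne.symm hb]
    · simp [π, ι]
  have hext : Subsingleton (Ext.{u} (eulerSeq v).X₃ (Coh.structureModule P) 1) :=
    SerreDual.subsingleton_ext_iso (Iso.refl _) (twZero (n := n) (R := k)).symm 1
      (subsingleton_ext_tw' (a := 1) (b := 0) (by omega) one_ne_zero)
  have hex : ∀ i, ∃ g : FlatMod.freeMod P (n + 1) ⟶ Coh.structureModule P,
      kernel.ι (freeHom v) ≫ g = (φ ≫ kernel.ι (freeHom v)) ≫ π i :=
    fun i => exists_extend hS hext ((φ ≫ kernel.ι (freeHom v)) ≫ π i)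
  choose g hg using hex
  let Φ : FlatMod.freeMod P (n + 1) ⟶ FlatMod.freeMod P (n + 1) := ∑ i, g i ≫ ι i
  have hΦ : kernel.ι (freeHom v) ≫ Φ = φ ≫ kernel.ι (freeHom v) := by
    rw [← Category.comp_id (φ ≫ kernel.ι (freeHom v)), ← hid, Preadditive.comp_sum, Preadditive.comp_sum]
    refine Finset.sum_congr rfl fun i _ => ?_
    exact (Category.assoc _ _ _).symm.trans ((congrArg (· ≫ ι i) (hg i)).trans (Category.assoc _ _ _))
  have hz : kernel.ι (freeHom v) ≫ Φ ≫ freeHom v = 0 := by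
    rw [reassoc_of% hΦ, kernel.condition, Limits.comp_zero]
  haveI : Epi (eulerSeq v).g := hS.epi_g
  obtain ⟨ψ, hψ⟩ : ∃ ψ, freeHom v ≫ ψ = Φ ≫ freeHom v :=
    ⟨hS.exact.desc (Φ ≫ freeHom v) hz, hS.exact.g_desc _ _⟩
  obtain ⟨c, rfl⟩ := end_scalar (ProjSpace.IsBundle.isInvertible_one n k) ψ
  refine ⟨c, ?_⟩
  have hD : (Φ - c • 𝟙 _) ≫ freeHom v = 0 := by
    rw [Preadditive.sub_comp, ← hψ, Linear.smul_comp, Category.id_comp, Linear.comp_smul,
      Category.comp_id, sub_self]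
  have hD0 : Φ - c • 𝟙 _ = 0 := by
    rw [← kernel.lift_ι _ _ hD, hom_free_eq_zero v hv (kernel.lift _ _ hD), Limits.zero_comp]
  rw [← cancel_mono (kernel.ι (freeHom v)), ← hΦ, sub_eq_zero.mp hD0, Linear.comp_smul,
    Linear.smul_comp, Category.comp_id, Category.id_comp]

omit [Field k] in
theorem tmap_smul {k : Type u} [Field k] (c : k) (M N : (CohB1.ProjSpace n k).Modules) :
    tmap (c • 𝟙 M) (𝟙 N) = c • 𝟙 (CohB1.tensorMod M N) := by
  rw [KLin.smul_id, KLin.smul_id]
  exact GP.tmap_scal M N _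

theorem isZero_omega_zero : IsZero (Omega.sheaf (CohB1.ProjSpace.toSpec 0 k)) := by
  haveI := ProjSpace.Basic.isProper_toSpec 0 k
  exact Cyc.CH.isZero_of_rank_zero (FundLocal.Rank.isFinLocFreeOfRank_omega (CohB1.ProjSpace.toSpec 0 k) 0)

/-- The sheaf of differentials of `P^n` is simple. -/
theorem end_omega_scalar [IsAlgClosed k] (φ : Omega.sheaf (CohB1.ProjSpace.toSpec n k) ⟶
    Omega.sheaf (CohB1.ProjSpace.toSpec n k)) : ∃ c : k, φ = c • 𝟙 _ := by
  rcases Nat.eq_zero_or_pos n with rfl | hn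
  · exact ⟨0, (isZero_omega_zero (k := k)).eq_of_src _ _⟩
  obtain ⟨v, he, hv, ⟨i⟩⟩ := exists_euler n k
  haveI : Epi (freeHom v) := he
  let O1 := Twist.twistProjSpace n k 1
  haveI : (tensorBy O1).IsEquivalence := CurveBundle.Twist.isEquivalence (ProjSpace.IsBundle.isInvertible_one n k)
  let t : CohB1.tensorMod (Omega.sheaf (CohB1.ProjSpace.toSpec n k)) O1 ⟶
      CohB1.tensorMod (Omega.sheaf (CohB1.ProjSpace.toSpec n k)) O1 := tmap φ (𝟙 O1)
  obtain ⟨c, hc⟩ := end_kernel_scalar v hv hn (i.inv ≫ t ≫ i.hom)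
  refine ⟨c, (tensorBy O1).map_injective ?_⟩
  have h : t = c • 𝟙 (CohB1.tensorMod _ O1) := by
    rw [← cancel_epi i.inv, ← cancel_mono i.hom, Category.assoc, hc]
    simp [O1]
  exact h.trans (tmap_smul c _ _).symm

end Groth.Agent.Lib.PnOmega
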