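import Groth.Agent.Lib.PnOmega.Restrict
import Groth.Agent.Lib.PnOmega.NullCorr
import Groth.Agent.Lib.PnStable.Serre

/-!
# Restriction of a null correlation bundle to a plane
-/

set_option autoImplicit false
set_option linter.style.haveILetI false
universe u

open CategoryTheory CategoryTheory.Limits AlgebraicGeometry
open CategoryTheory.Abelian

noncomputable section

namespace Groth.Agent.Lib.PnOmega.NullPlane

open Groth.Agent.Lib TensorMod.Basic ProjCoh ProjCoh.Coherent CurveBundle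

variable {n m : ℕ} {k : Type u} [Field k]

/-- `O(-1)` pulls back to `O(-1)`. -/
theorem nonempty_pullback_negOne (i : CohB1.ProjSpace m k ⟶ CohB1.ProjSpace n k)
    (e : (Scheme.Modules.pullback i).obj (tw n k 1) ≅ tw m k 1) :
    Nonempty ((Scheme.Modules.pullback i).obj (tw n k (-1)) ≅ tw m k (-1)) :=
  let A := (Scheme.Modules.pullback i).obj (tw n k (-1))
  ⟨(rightUnit A).symm ≪≫ tensorIso (Iso.refl A) (twCancel (n := m) (R := k) 1 (-1) (by norm_num)).symm ≪≫
    (assoc A (tw m k 1) (tw m k (-1))).symm ≪≫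
    tensorIso (tensorIso (Iso.refl A) e.symm ≪≫ (TensorMod.Pullback.pullbackTensorIso i (tw n k (-1)) (tw n k 1)).symm ≪≫
      (Scheme.Modules.pullback i).mapIso (twCancel (n := n) (R := k) (-1) 1 (by norm_num)) ≪≫
      PicLoc.pullbackStructureIso i) (Iso.refl _) ≪≫ leftUnit _⟩

theorem hom_pos_unit_eq_zero (hm : 0 < m) (f : tw m k 1 ⟶ Coh.structureModule (CohB1.ProjSpace m k)) : f = 0 :=
  (cancel_mono ((twZero (n := m) (R := k)).inv ≫ (twIso 0).hom)).1
    ((cancel_epi (twIso (n := m) (R := k) 1).inv).1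
      ((SerreDual.subsingleton_hom_neg (n := m) (R := k) hm (a := 1) (b := 0) (by omega)).elim _ _))

theorem hom_pos_free_eq_zero (hm : 0 < m) {r : ℕ} (f : tw m k 1 ⟶ FlatMod.freeMod (CohB1.ProjSpace m k) r) :
    f = 0 := by
  classical
  have hid : 𝟙 (FlatMod.freeMod (CohB1.ProjSpace m k) r) =
      ∑ j, Sigma.π (fun _ : Fin r => Coh.structureModule (CohB1.ProjSpace m k)) j ≫
        Sigma.ι (fun _ : Fin r => Coh.structureModule (CohB1.ProjSpace m k)) j :=
    Sigma.hom_ext _ _ fun i => by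
      rw [Category.comp_id, Preadditive.comp_sum, Finset.sum_eq_single i]
      · exact (Sigma.ι_π_eq_id_assoc (fun _ : Fin r => Coh.structureModule (CohB1.ProjSpace m k)) i _).symm
      · intro j _ hj
        exact (Category.assoc _ _ _).symm.trans (by rw [Sigma.ι_π_of_ne _ (Ne.symm hj), zero_comp])
      · intro h; exact absurd (Finset.mem_univ i) h
  rw [← Category.comp_id f, hid, Preadditive.comp_sum]
  exact Finset.sum_eq_zero fun j _ => by
    rw [← Category.assoc, hom_pos_unit_eq_zero hm (f ≫ _)]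
    exact zero_comp

theorem plane (i : CohB1.ProjSpace 2 k ⟶ CohB1.ProjSpace 3 k)
    (e : (Scheme.Modules.pullback i).obj (tw 3 k 1) ≅ tw 2 k 1)
    (u : Twist.twistProjSpace 3 k (-1) ⟶
      CohB1.tensorMod (Omega.sheaf (CohB1.ProjSpace.toSpec 3 k)) (Twist.twistProjSpace 3 k 1))
    [Mono u] (hM : FlatMod.IsFinLocFreeOfRank 2 (cokernel u)) :
    Subsingleton (Coh.HH (CohB1.ProjSpace 2 k)
        (CohB1.tensorMod ((Scheme.Modules.pullback i).obj (cokernel u)) (tw 2 k (-1))) 0) ∧
      Nontrivial (Coh.HH (CohB1.ProjSpace 2 k) ((Scheme.Modules.pullback i).obj (cokernel u)) 0) := by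
  haveI := hasExt_of_enoughInjectives.{u} (CohB1.ProjSpace 2 k).Modules
  have hS0 : (ShortComplex.mk u (cokernel.π u) (cokernel.condition u)).ShortExact :=
    { exact := ShortComplex.exact_cokernel u, mono_f := ‹Mono u›,
      epi_g := inferInstanceAs (Epi (cokernel.π u)) }
  have hS := KVec.Pull.shortExact_pullback i hS0 (TensorMod.LocFree.of_rank hM)
  haveI := hS.mono_f
  obtain ⟨a⟩ := nonempty_pullback_negOne i e
  obtain ⟨φ⟩ := nonempty_pullback_kernel i e
  obtain ⟨v, hve, hv, ⟨iv⟩⟩ := exists_euler 2 k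
  constructor
  · rw [PnStable.Serre.subsingleton_h0_iff]
    intro f
    obtain ⟨x, hx⟩ := Ext.covariant_sequence_exact₃ _ hS (Ext.mk₀ f) (zero_add 1)
      ((SerreDual.subsingleton_ext_iso (Iso.refl _) a 1
        (PnStable.Serre.subsingleton_ext_one (n := 2) (k := k) le_rfl _ _)).elim _ _)
    obtain ⟨x', rfl⟩ := (Ext.mk₀_bijective _ _).2 x
    have hx' : x' = 0 := by
      refine (cancel_mono φ.hom).1 (Eq.trans (biprod.hom_ext _ _ ?_ ?_) zero_comp.symm)
      · rw [zero_comp]
        refine (cancel_mono (iv.hom ≫ kernel.ι (Modules.Free.freeHom v))).1 (Eq.trans ?_ zero_comp.symm)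
        exact hom_pos_free_eq_zero (m := 2) two_pos (r := 2 + 1) _
      · rw [zero_comp]
        exact hom_pos_free_eq_zero (m := 2) two_pos _
    rw [hx', Ext.mk₀_zero, Ext.zero_comp] at hx
    exact ((Ext.mk₀_bijective _ _).1 (hx.symm.trans (Ext.mk₀_zero _ _).symm))
  · rw [← not_subsingleton_iff_nontrivial, ← Horrocks.subsingleton_hom_iff]
    intro h
    let z : Fin (3 - 2) := ⟨0, by norm_num⟩
    let o : Coh.structureModule (CohB1.ProjSpace 2 k) ⟶
        (Scheme.Modules.pullback i).obj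
          (CohB1.tensorMod (Omega.sheaf (CohB1.ProjSpace.toSpec 3 k)) (Twist.twistProjSpace 3 k 1)) :=
      (Sigma.ι (fun _ : Fin (3 - 2) => Coh.structureModule (CohB1.ProjSpace 2 k)) z ≫ biprod.inr) ≫ φ.inv
    obtain ⟨w, hw⟩ := KernelFork.IsLimit.lift' hS.fIsKernel o (h.elim _ _)
    have hw0 : w = 0 := (cancel_mono (a.hom ≫ (twIso (-1)).hom)).1
      ((cancel_epi ((twIso (n := 2) (R := k) 0).inv ≫ (twZero (n := 2) (R := k)).hom)).1
        ((SerreDual.subsingleton_hom_neg (n := 2) (R := k) two_pos (a := 0) (b := -1) (by omega)).elim _ _))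
    have ho : o = 0 := by rw [← hw, hw0]; exact zero_comp
    refine one_ne_zero_section' (X := CohB1.ProjSpace 2 k) ?_
    calc 𝟙 _ = Sigma.ι (fun _ : Fin (3 - 2) => Coh.structureModule (CohB1.ProjSpace 2 k)) z ≫
          Sigma.π (fun _ : Fin (3 - 2) => Coh.structureModule (CohB1.ProjSpace 2 k)) z :=
          (Sigma.ι_π_eq_id (fun _ : Fin (3 - 2) => Coh.structureModule (CohB1.ProjSpace 2 k)) z).symm
      _ = o ≫ φ.hom ≫ biprod.snd ≫ Sigma.π (fun _ : Fin (3 - 2) => Coh.structureModule (CohB1.ProjSpace 2 k)) z := by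
          simp [o]
      _ = 0 := by rw [ho, zero_comp]

end Groth.Agent.Lib.PnOmega.NullPlane
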