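import Groth.Agent.Lib.Ample.GenLocus
import Groth.Agent.Lib.Modules.TensorSec
import Groth.Agent.Lib.Modules.Free
import Groth.Agent.Lib.KVec.Model
import Groth.Agent.Lib.TensorMod.TensorInv
import Groth.Agent.Lib.Cyc.C1Indep
import Groth.Agent.Lib.CohDelta.KBC.Isotypic
import Groth.Agent.Lib.Cyc.CH.SubLine

/-!
# The null correlation subbundle

For generating sections `v₀, …, vₙ` (`n` odd) of an invertible `L` with inverse `T`, the alternating pairing
gives a subbundle `T ⟶ ker (O^{n+1} ⟶ L)`.
-/

set_option autoImplicit false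
set_option linter.style.haveILetI false
universe u

open CategoryTheory CategoryTheory.Limits AlgebraicGeometry TopologicalSpace Opposite

noncomputable section

namespace Groth.Agent.Lib.PnOmega

open Groth.Agent.Lib TensorMod TensorMod.Dual TensorMod.Gen Modules Modules.TensorSec Modules.Free

variable {X : Scheme.{u}} {L T : X.Modules} (c : CohB1.tensorMod L T ≅ Coh.structureModule X)

/-- Contraction with a section. -/
def contr (y : Γ(L, ⊤)) : T ⟶ Coh.structureModule X :=
  ⟨PresheafOfModules.homMk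
    { app := fun U => AddCommGrpCat.ofHom (AddMonoidHom.mk'
        (fun t : Γ(T, U.unop) => (c.hom.app U.unop (tens (rs L le_top y) t) : Γ(Coh.structureModule X, U.unop)))
        fun a b => (congrArg (c.hom.app U.unop) (tens_add_right _ a b)).trans (map_add _ _ _))
      naturality := fun U V i => by
        refine ConcreteCategory.ext_apply fun t => ?_
        show c.hom.app V.unop (tens (rs L le_top y) (rs T (leOfHom i.unop) t)) =
          rs (Coh.structureModule X) (leOfHom i.unop) (c.hom.app U.unop (tens (rs L le_top y) t))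
        refine Eq.trans ?_ (app_rs c.hom (leOfHom i.unop) (tens (rs L le_top y) (show Γ(T, U.unop) from t)))
        refine congrArg (c.hom.app V.unop) ?_
        refine Eq.trans ?_ (rs_tens (leOfHom i.unop) (rs L le_top y) (show Γ(T, U.unop) from t)).symm
        exact congrArg (fun a => tens a _) (rs_rs L le_top (leOfHom i.unop) y).symm }
    fun U a t => by
      show c.hom.app U.unop (tens (rs L le_top y) ((show Γ(X, U.unop) from a) • (show Γ(T, U.unop) from t))) =
        (show Γ(X, U.unop) from a) • c.hom.app U.unop (tens (rs L le_top y) (show Γ(T, U.unop) from t))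
      rw [tens_smul_right, Scheme.Modules.Hom.app_smul]⟩

theorem contr_app (y : Γ(L, ⊤)) (U : X.Opens) (t : Γ(T, U)) :
    (contr c y).app U t = c.hom.app U (tens (rs L le_top y) t) := rfl

theorem contr_comm (hL : PicF.IsInvertible L) (x y : Γ(L, ⊤)) :
    contr c x ≫ unitHom L y = contr c y ≫ unitHom L x := by
  refine Scheme.Modules.hom_ext _ _ fun U => ConcreteCategory.ext_apply fun t => ?_
  refine section_ext L _ _ fun p hp => ?_
  obtain ⟨W, g, hpW, hg⟩ := isInvertible_iff.1 hL p
  refine ⟨W ⊓ U, inf_le_right, ⟨hpW, hp⟩, ?_⟩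
  rw [← app_rs, ← app_rs]
  let V := W ⊓ U
  have hg' := hg.res (inf_le_left : V ≤ W)
  obtain ⟨a, ha⟩ := (hg' V le_rfl).2 (rs L le_top x)
  obtain ⟨b, hb⟩ := (hg' V le_rfl).2 (rs L le_top y)
  let G : Γ(L, V) := rs L le_rfl (rs L (inf_le_left : V ≤ W) g)
  let t' : Γ(T, V) := rs T inf_le_right t
  show (unitHom L y).app V ((contr c x).app V t') = (unitHom L x).app V ((contr c y).app V t')
  rw [contr_app, contr_app]
  show (show Γ(X, V) from c.hom.app V (tens (rs L le_top x) t')) • (rs L le_top y : Γ(L, V)) =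
    (show Γ(X, V) from c.hom.app V (tens (rs L le_top y) t')) • (rs L le_top x : Γ(L, V))
  rw [← ha, ← hb, tens_smul_left, tens_smul_left, Scheme.Modules.Hom.app_smul, Scheme.Modules.Hom.app_smul]
  show (a * (show Γ(X, V) from c.hom.app V (tens G t'))) • (b • G) =
    (b * (show Γ(X, V) from c.hom.app V (tens G t'))) • (a • G)
  rw [smul_smul, smul_smul]
  congr 1
  ring

/-- Where `y` generates, contraction with it is an isomorphism. -/
theorem exists_isIso_contr (hL : PicF.IsInvertible L) (hT : PicF.IsInvertible T) {y : Γ(L, ⊤)} (x : X)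
    (hy : ∀ (W : X.Opens) (g : Γ(L, W)) (hx : x ∈ W) (f : Γ(X, W)), IsGen L W g → rs L le_top y = f • g →
      IsUnit (X.presheaf.germ W x hx f)) :
    ∃ W : X.Opens, x ∈ W ∧ IsIso ((Scheme.Modules.restrictFunctor W.ι).map (contr c y)) := by
  obtain ⟨W₁, g, hx₁, hg⟩ := isInvertible_iff.1 hL x
  obtain ⟨W₂, t, hx₂, ht⟩ := isInvertible_iff.1 hT x
  let W₀ := W₁ ⊓ W₂
  have hx₀ : x ∈ W₀ := ⟨hx₁, hx₂⟩
  have hg₀ := hg.res (inf_le_left : W₀ ≤ W₁)
  have ht₀ := ht.res (inf_le_right : W₀ ≤ W₂)
  let G : Γ(L, W₀) := rs L inf_le_left g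
  let T₀ : Γ(T, W₀) := rs T inf_le_right t
  obtain ⟨f, hf⟩ := (hg₀ W₀ le_rfl).2 (rs L le_top y)
  have hf' : rs L le_top y = f • G := by rw [← hf]; exact congrArg (f • ·) (rs_self L le_rfl G)
  have hu := hy W₀ G hx₀ f hg₀ hf'
  let W := X.basicOpen f
  have hWW : W ≤ W₀ := X.basicOpen_le f
  refine ⟨W, (X.mem_basicOpen f x hx₀).mpr hu, ?_⟩
  haveI : ∀ V, IsIso (((Scheme.Modules.restrictFunctor W.ι).map (contr c y)).app V) := fun V => by
    refine (ConcreteCategory.isIso_iff_bijective _).mpr ?_
    show Function.Bijective fun z => (contr c y).app (W.ι ''ᵁ V) z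
    let V' := W.ι ''ᵁ V
    have hV : V' ≤ W := W.ι_image_le V
    have hV0 : V' ≤ W₀ := hV.trans hWW
    let e : Γ(X, V') := c.hom.app V' (tens (rs L hV0 G) (rs T hV0 T₀))
    have he : IsUnit e := by
      have hgt := Ample.GenLocus.isGen_tmul (hg₀.res hV0) (ht₀.res hV0)
      obtain ⟨b, hb⟩ := (hgt V' le_rfl).2 (c.inv.app V' (1 : Γ(X, V')))
      have hb' : b • tens (rs L hV0 G) (rs T hV0 T₀) = c.inv.app V' (1 : Γ(X, V')) :=
        (congrArg (fun z : Γ(CohB1.tensorMod L T, V') => b • z) (rs_self _ le_rfl _).symm).trans hb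
      have h1 : (1 : Γ(X, V')) = b * e := by
        have h2 := congrArg (c.hom.app V') hb'
        rw [Scheme.Modules.Hom.app_smul] at h2
        refine Eq.trans ?_ h2.symm
        show _ = (c.inv ≫ c.hom).app V' (1 : Γ(X, V'))
        rw [c.inv_hom_id]
        rfl
      exact isUnit_of_dvd_one ⟨b, h1.trans (mul_comm _ _)⟩
    have hfu : IsUnit (X.presheaf.map (homOfLE hV0).op f : Γ(X, V')) := by
      have h := (RingedSpace.isUnit_res_basicOpen X.toRingedSpace f).map
        (X.presheaf.map (homOfLE (show V' ≤ W from hV)).op).hom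
      refine (congrArg IsUnit ?_).mp h
      exact (ConcreteCategory.congr_hom (X.presheaf.map_comp (homOfLE hWW).op (homOfLE hV).op) f).symm
    have hval : ∀ b : Γ(X, V'), (contr c y).app V' (b • rs T hV0 T₀) =
        (show Γ(Coh.structureModule X, V') from b * ((X.presheaf.map (homOfLE hV0).op f : Γ(X, V')) * e)) := fun b => by
      rw [contr_app, tens_smul_right, Scheme.Modules.Hom.app_smul]
      have e1 : rs L (le_top : V' ≤ ⊤) y = (X.presheaf.map (homOfLE hV0).op f : Γ(X, V')) • rs L hV0 G := by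
        rw [← rs_rs L (le_top : W₀ ≤ ⊤) hV0 y, hf', rs_smul]
      rw [e1, tens_smul_left, Scheme.Modules.Hom.app_smul]
      rfl
    have hb := (ht₀.res hV0) V' le_rfl
    refine (Function.Bijective.of_comp_iff _ hb).mp ?_
    have hm := (hfu.mul he)
    have e2 : (fun z => (contr c y).app V' z) ∘ (fun a : Γ(X, V') => a • rs T le_rfl (rs T hV0 T₀)) =
        fun a => (show Γ(Coh.structureModule X, V') from a * ((X.presheaf.map (homOfLE hV0).op f : Γ(X, V')) * e)) := by
      funext a
      rw [Function.comp_apply, rs_self]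
      exact hval a
    rw [e2]
    exact hm.unit.mulRight_bijective
  exact Scheme.Modules.Hom.isIso_iff_isIso_app.mpr inferInstance

/-- The pairing of the indices. -/
def partner {n : ℕ} (hn : Odd n) (i : Fin (n + 1)) : Fin (n + 1) :=
  if h : Even (i : ℕ) then ⟨i + 1, by
      obtain ⟨r, rfl⟩ := hn
      obtain ⟨s, hs⟩ := h
      have := i.2
      omega⟩
  else ⟨i - 1, by have := i.2; omega⟩

theorem partner_val {n : ℕ} (hn : Odd n) (i : Fin (n + 1)) :
    (partner hn i : ℕ) = if Even (i : ℕ) then (i : ℕ) + 1 else (i : ℕ) - 1 := by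
  unfold partner
  split_ifs <;> rfl

theorem partner_spec {n : ℕ} (hn : Odd n) (i : Fin (n + 1)) :
    partner hn (partner hn i) = i ∧ partner hn i ≠ i ∧ (Even ((partner hn i : Fin (n + 1)) : ℕ) ↔ ¬ Even (i : ℕ)) := by
  have h0 := partner_val hn i
  by_cases h : Even (i : ℕ)
  · rw [if_pos h] at h0
    have h2 : ¬ Even (partner hn i : ℕ) := by rw [h0, Nat.even_add_one]; simpa using h
    refine ⟨Fin.ext ?_, fun he => ?_, iff_of_false h2 (by simpa using h)⟩
    · rw [partner_val, if_neg h2, h0]; omega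
    · rw [he] at h0; omega
  · rw [if_neg h] at h0
    obtain ⟨s, hs⟩ := Nat.not_even_iff_odd.mp h
    have h2 : Even (partner hn i : ℕ) := ⟨s, by omega⟩
    refine ⟨Fin.ext ?_, fun he => ?_, iff_of_true h2 h⟩
    · rw [partner_val, if_pos h2, h0]; omega
    · rw [he] at h0; omega

set_option maxHeartbeats 1000000 in
/-- The null correlation subbundle. -/
theorem exists_subbundle [ConnectedSpace X] {n : ℕ} (hn : Odd n) (hL : PicF.IsInvertible L) (hT : PicF.IsInvertible T)
    (c : CohB1.tensorMod L T ≅ Coh.structureModule X) (v : Fin (n + 1) → Γ(L, ⊤)) [Epi (freeHom v)]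
    (hK : FlatMod.IsFinLocFreeOfRank n (kernel (freeHom v))) :
    ∃ w : T ⟶ kernel (freeHom v), Mono w ∧ FlatMod.IsFinLocFreeOfRank (n - 1) (cokernel w) := by
  classical
  let sgn : Fin (n + 1) → ℤ := fun i => if Even (i : ℕ) then 1 else -1
  let ι' : Fin (n + 1) → (Coh.structureModule X ⟶ FlatMod.freeMod X (n + 1)) :=
    Sigma.ι fun _ : Fin (n + 1) => Coh.structureModule X
  let w₀ : T ⟶ FlatMod.freeMod X (n + 1) := ∑ i, (sgn i • contr c (v (partner hn i))) ≫ ι' i
  have hw : w₀ ≫ freeHom v = 0 := by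
    rw [Preadditive.sum_comp]
    refine Finset.sum_involution (fun i _ => partner hn i) (fun i _ => ?_) (fun i _ _ => (partner_spec hn i).2.1)
      (fun i _ => Finset.mem_univ _) (fun i _ => (partner_spec hn i).1)
    simp only [Category.assoc, Preadditive.zsmul_comp, freeHom, ι', Sigma.ι_desc, (partner_spec hn i).1]
    rw [contr_comm c hL (v (partner hn i)) (v i)]
    have hs : sgn (partner hn i) = - sgn i := by
      simp only [sgn]
      by_cases h : Even (i : ℕ) <;> simp [h, (partner_spec hn i).2.2]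
    rw [hs, neg_smul, add_neg_cancel]
  let w : T ⟶ kernel (freeHom v) := kernel.lift _ w₀ hw
  -- local retractions
  have hloc : ∀ x : X, ∃ (W : X.Opens), x ∈ W ∧ ∃ r : (kernel (freeHom v)).restrict W.ι ⟶ T.restrict W.ι,
      (Scheme.Modules.restrictFunctor W.ι).map w ≫ r = 𝟙 _ := fun x => by
    obtain ⟨j, hj⟩ : ∃ j, ∀ (W : X.Opens) (g : Γ(L, W)) (hx : x ∈ W) (f : Γ(X, W)), IsGen L W g →
        rs L le_top (v j) = f • g → IsUnit (X.presheaf.germ W x hx f) := by
      by_contra! h
      choose W g hx f hg hf hu using h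
      obtain ⟨t, ht, hfree⟩ := Cyc.C1Indep.exists_free_gen hL x
      let S : Submodule (X.presheaf.stalk x) (L.presheaf.stalk x) :=
        Submodule.map (LinearMap.toSpanSingleton (X.presheaf.stalk x) (L.presheaf.stalk x) t)
          (IsLocalRing.maximalIdeal (X.presheaf.stalk x))
      obtain ⟨z, hz⟩ := (Modules.Stalk.epi_iff_stalk_surjective (freeHom v)).1 inferInstance x t
      have hmem : t ∈ S := by
        have hspan : z ∈ (⊤ : Submodule (X.presheaf.stalk x) ((FlatMod.freeMod X (n + 1)).presheaf.stalk x)) := trivial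
        rw [← span_germ_gen] at hspan
        rw [show t = StalkModule.stalkMapₗ (freeHom v) x z from hz.symm]
        have h3 := Submodule.mem_map_of_mem (f := StalkModule.stalkMapₗ (freeHom v) x) hspan
        rw [Submodule.map_span] at h3
        refine Submodule.span_le.2 ?_ h3
        rintro _ ⟨_, ⟨i, rfl⟩, rfl⟩
        rw [freeHom_stalk_germ, SetLike.mem_coe, ← TopCat.Presheaf.germ_res_apply L.presheaf
          (homOfLE (le_top : W i ≤ ⊤)) x (hx i) (v i)]
        show L.presheaf.germ (W i) x (hx i) (rs L le_top (v i)) ∈ S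
        obtain ⟨b, hb⟩ := Submodule.mem_span_singleton.1
          (show L.presheaf.germ (W i) x (hx i) (g i) ∈ Submodule.span (X.presheaf.stalk x) {t} by rw [ht]; trivial)
        rw [hf i, StalkModule.germ_smul, ← hb, smul_smul]
        exact Submodule.mem_map_of_mem (f := LinearMap.toSpanSingleton (X.presheaf.stalk x) (L.presheaf.stalk x) t)
          (Ideal.mul_mem_right b _ ((IsLocalRing.mem_maximalIdeal _).mpr (hu i)))
      obtain ⟨a, ha, ha'⟩ := hmem
      have h1 : a = 1 := sub_eq_zero.mp (hfree _ (by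
        rw [sub_smul, one_smul, show a • t = t from ha', sub_self]))
      exact (IsLocalRing.maximalIdeal.isMaximal _).ne_top ((Ideal.eq_top_iff_one _).2 (h1 ▸ ha))
    obtain ⟨W, hxW, hiso⟩ := exists_isIso_contr c hL hT x hj
    refine ⟨W, hxW, ?_⟩
    let F := Scheme.Modules.restrictFunctor W.ι
    haveI : F.Additive := (Scheme.Modules.restrictAdjunction W.ι).left_adjoint_additive
    let i := partner hn j
    let π : FlatMod.freeMod X (n + 1) ⟶ Coh.structureModule X :=
      Sigma.desc fun l => if l = i then 𝟙 _ else 0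
    have hπ : w₀ ≫ π = sgn i • contr c (v j) := by
      rw [Preadditive.sum_comp, Finset.sum_eq_single i (fun l _ hl => by simp [π, ι', hl])
        (fun h => absurd (Finset.mem_univ i) h)]
      simp [π, ι', i, (partner_spec hn j).1]
    refine ⟨sgn i • (F.map (kernel.ι (freeHom v)) ≫ F.map π ≫ inv (F.map (contr c (v j)))), ?_⟩
    rw [Preadditive.comp_zsmul, ← Category.assoc, ← F.map_comp, kernel.lift_ι, ← Category.assoc, ← F.map_comp,
      hπ, Functor.map_zsmul, Preadditive.zsmul_comp, IsIso.hom_inv_id, smul_smul]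
    have : sgn i * sgn i = 1 := by simp only [sgn]; split_ifs <;> norm_num
    rw [this, one_smul]
  have hT' : FlatMod.IsFinLocFree T := LocFree.of_rank (LocFree.of_isInvertible hT)
  have hK' := LocFree.of_rank hK
  haveI : Mono w := by
    refine Preadditive.mono_of_cancel_zero w fun {A} g hg => ?_
    refine Scheme.Modules.hom_ext _ _ fun U => ConcreteCategory.ext_apply fun t => ?_
    refine section_ext _ _ _ fun x hxU => ?_
    obtain ⟨W, hx, r, hr⟩ := hloc x
    let F := Scheme.Modules.restrictFunctor W.ι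
    haveI : F.Additive := (Scheme.Modules.restrictAdjunction W.ι).left_adjoint_additive
    have hFg : F.map g = 0 := by
      rw [← Category.comp_id (F.map g), ← hr, ← Category.assoc, ← F.map_comp, hg, Functor.map_zero,
        Limits.zero_comp]
    refine ⟨W.ι ''ᵁ (W.ι ⁻¹ᵁ U), W.ι.image_preimage_le U, ⟨⟨x, hx⟩, hxU, rfl⟩, ?_⟩
    rw [← app_rs]
    show (F.map g).app (W.ι ⁻¹ᵁ U) (rs A _ t) = _
    rw [hFg]
    exact (rs_zero T _).symm
  refine ⟨w, inferInstance, ?_⟩
  -- the cokernel is a bundle
  have hC : FlatMod.IsFinLocFree (cokernel w) := fun x => by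
    obtain ⟨W, hx, r, hr⟩ := hloc x
    let F := Scheme.Modules.restrictFunctor W.ι
    haveI : F.Additive := (Scheme.Modules.restrictAdjunction W.ι).left_adjoint_additive
    haveI : PreservesColimitsOfSize.{0, 0} F := (Scheme.Modules.restrictAdjunction W.ι).leftAdjoint_preservesColimits
    haveI : PreservesColimit (parallelPair w 0) F := inferInstance
    have h0 : F.map w ≫ (𝟙 _ - r ≫ F.map w) = 0 := by
      rw [Preadditive.comp_sub, Category.comp_id, ← Category.assoc, hr, Category.id_comp, sub_self]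
    let s : cokernel (F.map w) ⟶ F.obj (kernel (freeHom v)) := cokernel.desc _ _ h0
    have hs : s ≫ cokernel.π (F.map w) = 𝟙 _ := by
      rw [← cancel_epi (cokernel.π (F.map w)), cokernel.π_desc_assoc, Preadditive.sub_comp, Category.assoc,
        cokernel.condition, Limits.comp_zero, sub_zero, Category.id_comp, Category.comp_id]
    have h1 : FlatMod.IsFinLocFree (cokernel (F.map w)) :=
      CohDelta.KBC.isFinLocFree_retract s _ hs (LocFree.isFinLocFree_restrict W.ι hK')
    obtain ⟨V, d, hV, ⟨i⟩⟩ := LocFree.of_iso (PreservesCokernel.iso F w).symm h1 ⟨x, hx⟩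
    obtain ⟨e, he⟩ := TensorMod.Basis.exists_basis_of_iso i
    obtain ⟨e', he'⟩ := TensorMod.TensorInv.exists_basis_image V he
    exact ⟨W.ι ''ᵁ V, d, ⟨⟨x, hx⟩, hV, rfl⟩, TensorMod.Basis.exists_iso_of_basis he'⟩
  obtain ⟨x₀⟩ := (inferInstance : Nonempty X)
  have hS : (ShortComplex.mk w (cokernel.π w) (cokernel.condition w)).ShortExact :=
    { exact := ShortComplex.exact_cokernel w, mono_f := inferInstanceAs (Mono w) }
  have h := KVec.Model.rk_add hS hT' hK' hC x₀
  dsimp only at h
  rw [KVec.Model.rk_of_rank hK x₀, KVec.Model.rk_of_rank (LocFree.of_isInvertible hT) x₀] at h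
  have h' : KVec.Model.rk (cokernel w) x₀ = n - 1 := by omega
  rw [← h']
  exact KVec.Model.rank_of_isFinLocFree hC x₀

end Groth.Agent.Lib.PnOmega
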