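import Groth.Agent.Lib.PnOmega.Symp
import Groth.Agent.Lib.PnOmega.Restrict
import Groth.Agent.Lib.PnOmega.NullCorr
import Groth.Agent.Lib.Cyc.CH.SplitPullback
import Groth.Agent.Lib.PnStable.Serre

/-!
# The Tango bundle: the kernel of `2n - 1` skew forms `O(-1)^{2n-1} ⟶ Ω(1)`
-/

set_option autoImplicit false
set_option linter.style.haveILetI false
universe u

open CategoryTheory CategoryTheory.Limits AlgebraicGeometry TopologicalSpace Opposite
open CategoryTheory.Abelian

noncomputable section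

namespace Groth.Agent.Lib.PnOmega.Tango

open Groth.Agent.Lib TensorMod TensorMod.Dual TensorMod.Gen Modules Modules.TensorSec Modules.Free

/-- The coefficient of `e_i ∧ e_j` in the `m`-th form. -/
def coef {n : ℕ} (m : ℕ) (i j : Fin (n + 1)) : ℤ :=
  if (i : ℕ) + j = m + 1 then (if i < j then 1 else if j < i then -1 else 0) else 0

theorem coef_skew {n : ℕ} (m : ℕ) (i j : Fin (n + 1)) : coef m i j = - coef m j i := by
  simp only [coef, add_comm (i : ℕ)]
  rcases lt_trichotomy i j with h | h | h <;> simp [h, not_lt_of_gt, apply_ite Neg.neg]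

theorem stalkMapₗ_sum {X : Scheme.{u}} {M N : X.Modules} {ι : Type*} (s : Finset ι) (f : ι → (M ⟶ N)) (x : X) :
    StalkModule.stalkMapₗ (∑ i ∈ s, f i) x = ∑ i ∈ s, StalkModule.stalkMapₗ (f i) x :=
  map_sum (AddMonoidHom.mk' (fun g : M ⟶ N => StalkModule.stalkMapₗ g x) fun a b => StalkModule.stalkMapₗ_add a b x) f s

theorem stalkMapₗ_zsmul {X : Scheme.{u}} {M N : X.Modules} (a : ℤ) (f : M ⟶ N) (x : X) :
    StalkModule.stalkMapₗ (a • f) x = a • StalkModule.stalkMapₗ f x :=
  map_zsmul (AddMonoidHom.mk' (fun g : M ⟶ N => StalkModule.stalkMapₗ g x) fun a b => StalkModule.stalkMapₗ_add a b x) a f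

/-- The stalk of `O_X` as a module is the local ring. -/
abbrev oe {X : Scheme.{u}} (x : X) :
    (Coh.structureModule X).presheaf.stalk x ≃ₗ[X.presheaf.stalk x] X.presheaf.stalk x :=
  RefHull.Reflexive.oEquiv x

theorem oe_germ {X : Scheme.{u}} {x : X} {U : X.Opens} (hx : x ∈ U) (r : Γ(X, U)) :
    oe x ((Coh.structureModule X).presheaf.germ U x hx r) = X.presheaf.germ U x hx r := by
  rw [oe, RefHull.Reflexive.oEquiv, LinearEquiv.symm_apply_eq]
  show _ = X.presheaf.germ U x hx r • (Coh.structureModule X).presheaf.germ ⊤ x trivial (1 : Γ(X, ⊤))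
  refine ((AssPt.Basic.unitStalk_germ_smul_one x hx r).symm).trans (congrArg _ ?_)
  refine Eq.trans (congrArg _ ?_) (TopCat.Presheaf.germ_res_apply
    (Coh.structureModule X).presheaf (homOfLE (le_top : U ≤ ⊤)) x hx (1 : Γ(X, ⊤)))
  exact (map_one (X.presheaf.map (homOfLE (le_top : U ≤ ⊤)).op).hom).symm

section Gen

variable {X : Scheme.{u}} {L T : X.Modules} (c : CohB1.tensorMod L T ≅ Coh.structureModule X)
  {n : ℕ} (v : Fin (n + 1) → Γ(L, ⊤))

/-- The projections of a free module. -/
def proj (i : Fin (n + 1)) : FlatMod.freeMod X (n + 1) ⟶ Coh.structureModule X :=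
  Sigma.desc fun l => if l = i then 𝟙 _ else 0

theorem sum_proj : ∑ b, proj (X := X) b ≫ Sigma.ι (fun _ : Fin (n + 1) => Coh.structureModule X) b = 𝟙 _ :=
  Sigma.hom_ext _ _ fun a => by
    rw [Preadditive.comp_sum, Category.comp_id]
    refine (Finset.sum_eq_single a (fun b _ hb => ?_) fun h => absurd (Finset.mem_univ a) h).trans ?_
    · simp [proj, Ne.symm hb]
    · simp [proj]

/-- A skew form. -/
def form (m : ℕ) : T ⟶ FlatMod.freeMod X (n + 1) :=
  ∑ i, ∑ j, (coef m i j • contr c (v j)) ≫ Sigma.ι (fun _ : Fin (n + 1) => Coh.structureModule X) i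

theorem form_proj (m : ℕ) (i : Fin (n + 1)) : form c v m ≫ proj i = ∑ j, coef m i j • contr c (v j) := by
  simp only [form, Preadditive.sum_comp]
  rw [Finset.sum_eq_single i (fun l _ hl => Finset.sum_eq_zero fun j _ => by simp [proj, hl])
    (fun h => absurd (Finset.mem_univ i) h)]
  exact Finset.sum_congr rfl fun j _ => by simp [proj]

theorem form_comp (hL : PicF.IsInvertible L) (m : ℕ) : form c v m ≫ freeHom v = 0 := by
  simp only [form, Preadditive.sum_comp]
  rw [← Fintype.sum_prod_type']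
  refine Finset.sum_involution (fun p _ => (p.2, p.1)) (fun p _ => ?_) (fun p _ hp he => hp ?_)
    (fun p _ => Finset.mem_univ _) (fun p _ => rfl)
  · simp only [Category.assoc, Preadditive.zsmul_comp, freeHom, Sigma.ι_desc]
    rw [contr_comm c hL (v p.2) (v p.1), coef_skew m p.2 p.1, neg_smul, add_neg_cancel]
  · have h1 : p.2 = p.1 := congrArg Prod.fst he
    rw [h1, show coef m p.1 p.1 = 0 by simp [coef]]
    simp

/-- The map `T ⟶ ker` of a form. -/
def formK (hL : PicF.IsInvertible L) (m : ℕ) : T ⟶ kernel (freeHom v) :=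
  kernel.lift _ (form c v m) (form_comp c v hL m)

/-- Near every point the contractions have a common unit factor. -/
theorem exists_local [Epi (freeHom v)] (hL : PicF.IsInvertible L) (hT : PicF.IsInvertible T) (x : X) :
    ∃ (τ : T.presheaf.stalk x) (e : Fin (n + 1) → X.presheaf.stalk x),
      (∀ j, oe x (StalkModule.stalkMapₗ (contr c (v j)) x τ) = e j) ∧
        (∀ j a, StalkModule.stalkMapₗ (unitHom L (v j)) x a = 0 → oe x a * e j = 0) ∧
        ∃ j, IsUnit (e j) := by
  obtain ⟨W₁, g, hx₁, hg⟩ := isInvertible_iff.1 hL x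
  obtain ⟨W₂, t, hx₂, ht⟩ := isInvertible_iff.1 hT x
  obtain ⟨W, hW₁, hW₂, hx⟩ : ∃ W : X.Opens, W ≤ W₁ ∧ W ≤ W₂ ∧ x ∈ W :=
    ⟨W₁ ⊓ W₂, inf_le_left, inf_le_right, hx₁, hx₂⟩
  have hg₀ := hg.res hW₁
  have ht₀ := ht.res hW₂
  let G : Γ(L, W) := rs L hW₁ g
  let T₀ : Γ(T, W) := rs T hW₂ t
  choose f hf using fun j => Ample.GenLocus.exists_coord hg₀ (rs L le_top (v j))
  let E : Γ(X, W) := c.hom.app W (tens G T₀)
  have hE : IsUnit E := by
    obtain ⟨b, hb⟩ := Ample.GenLocus.exists_coord (Ample.GenLocus.isGen_tmul hg₀ ht₀) (c.inv.app W (1 : Γ(X, W)))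
    have h2 : c.hom.app W (c.inv.app W (1 : Γ(X, W))) = b • c.hom.app W (tens G T₀) :=
      (congrArg (c.hom.app W) hb).trans (Scheme.Modules.Hom.app_smul _ _ _)
    refine isUnit_of_dvd_one ⟨b, ?_⟩
    refine Eq.trans ?_ (h2.trans (mul_comm b E))
    show _ = (c.inv ≫ c.hom).app W (1 : Γ(X, W))
    rw [c.inv_hom_id]
    rfl
  refine ⟨T.presheaf.germ W x hx T₀, fun j => X.presheaf.germ W x hx (f j * E), fun j => ?_, fun j a ha => ?_, ?_⟩
  · rw [StalkModule.stalkMapₗ_germ, contr_app, hf j, tens_smul_left, Scheme.Modules.Hom.app_smul]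
    exact oe_germ hx _
  · have h1 : StalkModule.stalkMapₗ (unitHom L (v j)) x ((oe x).symm 1) =
        L.presheaf.germ W x hx (rs L le_top (v j)) := by
      rw [show (oe x).symm 1 = (Coh.structureModule X).presheaf.germ W x hx (1 : Γ(X, W)) from
        (LinearEquiv.symm_apply_eq _).2 ((map_one (X.presheaf.germ W x hx).hom).symm.trans (oe_germ hx _).symm)]
      refine (StalkModule.stalkMapₗ_germ (unitHom L (v j)) hx (show Γ(Coh.structureModule X, W) from (1 : Γ(X, W)))).trans
        (congrArg (L.presheaf.germ W x hx) ?_)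
      rw [unitHom_app]
      exact one_smul _ _
    have h2 : StalkModule.stalkMapₗ (unitHom L (v j)) x a = oe x a • L.presheaf.germ W x hx (rs L le_top (v j)) := by
      rw [← h1, ← map_smul, ← map_smul, smul_eq_mul, mul_one, LinearEquiv.symm_apply_apply]
    rw [hf j, StalkModule.germ_smul, smul_smul] at h2
    have h3 : oe x a * X.presheaf.germ W x hx (f j) = 0 := (Modules.TensorGen.bijective_germ_smul hg₀ hx).1
      ((h2.symm.trans ha).trans (zero_smul _ _).symm)
    show _ * X.presheaf.germ W x hx (f j * E) = 0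
    rw [map_mul, ← mul_assoc, h3, zero_mul]
  · by_contra! hu
    obtain ⟨z, hz⟩ := (Modules.Stalk.epi_iff_stalk_surjective (freeHom v)).1 inferInstance x
      (L.presheaf.germ W x hx G)
    let S : Submodule (X.presheaf.stalk x) (L.presheaf.stalk x) :=
      Submodule.map (LinearMap.toSpanSingleton (X.presheaf.stalk x) (L.presheaf.stalk x) (L.presheaf.germ W x hx G))
        (IsLocalRing.maximalIdeal (X.presheaf.stalk x))
    have hmem : L.presheaf.germ W x hx G ∈ S := by
      have hspan : z ∈ (⊤ : Submodule (X.presheaf.stalk x) ((FlatMod.freeMod X (n + 1)).presheaf.stalk x)) := trivial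
      rw [← span_germ_gen] at hspan
      rw [show L.presheaf.germ W x hx G = StalkModule.stalkMapₗ (freeHom v) x z from hz.symm]
      have h3 := Submodule.mem_map_of_mem (f := StalkModule.stalkMapₗ (freeHom v) x) hspan
      rw [Submodule.map_span] at h3
      refine Submodule.span_le.2 ?_ h3
      rintro _ ⟨_, ⟨i, rfl⟩, rfl⟩
      rw [freeHom_stalk_germ, SetLike.mem_coe, ← TopCat.Presheaf.germ_res_apply L.presheaf
        (homOfLE (le_top : W ≤ ⊤)) x hx (v i)]
      show L.presheaf.germ W x hx (rs L le_top (v i)) ∈ S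
      rw [hf i, StalkModule.germ_smul]
      refine Submodule.mem_map_of_mem (f := LinearMap.toSpanSingleton (X.presheaf.stalk x) (L.presheaf.stalk x)
        (L.presheaf.germ W x hx G)) ((IsLocalRing.mem_maximalIdeal _).mpr fun h => hu i ?_)
      rw [map_mul]
      exact h.mul (hE.map (X.presheaf.germ W x hx).hom)
    obtain ⟨a, ha, ha'⟩ := hmem
    have h1 : a = 1 := (Modules.TensorGen.bijective_germ_smul hg₀ hx).1
      ((show a • L.presheaf.germ W x hx G = _ from ha').trans (one_smul _ _).symm)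
    exact (IsLocalRing.maximalIdeal.isMaximal _).ne_top ((Ideal.eq_top_iff_one _).2 (h1 ▸ ha))

/-- The forms generate the kernel. -/
theorem epi_forms [Epi (freeHom v)] (hL : PicF.IsInvertible L) (hT : PicF.IsInvertible T) :
    Epi (Sigma.desc fun m : Fin (2 * n - 1) => formK c v hL m) := by
  classical
  refine (StalkModule.epi_iff_stalkMapₗ_surjective _).2 fun x z => ?_
  obtain ⟨τ, e, he, hrel, hex⟩ := exists_local c v hL hT x
  obtain ⟨p, hp, hmin⟩ := WellFounded.has_min wellFounded_lt {j : Fin (n + 1) | IsUnit (e j)} hex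
  have hsmall : ∀ l, l < p → e l ∈ IsLocalRing.maximalIdeal (X.presheaf.stalk x) := fun l hl =>
    (IsLocalRing.mem_maximalIdeal _).mpr fun h => hmin l h hl
  let P : Fin (n + 1) → ((kernel (freeHom v)).presheaf.stalk x →ₗ[X.presheaf.stalk x] X.presheaf.stalk x) := fun i =>
    (oe x).toLinearMap ∘ₗ StalkModule.stalkMapₗ (kernel.ι (freeHom v) ≫ proj i) x
  have hP : ∀ (m : ℕ) i, P i (StalkModule.stalkMapₗ (formK c v hL m) x τ) = ∑ j, coef m i j • e j := fun m i => by
    show oe x ((StalkModule.stalkMapₗ (kernel.ι (freeHom v) ≫ proj i) x ∘ₗ StalkModule.stalkMapₗ (formK c v hL m) x) τ) = _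
    rw [← StalkModule.stalkMapₗ_comp, ← Category.assoc, formK, kernel.lift_ι, form_proj]
    rw [stalkMapₗ_sum, LinearMap.sum_apply, map_sum]
    exact Finset.sum_congr rfl fun j _ => by rw [stalkMapₗ_zsmul, LinearMap.smul_apply, map_zsmul, he]
  -- the kernel injects away from the coordinate `p`
  have hinj : ∀ w, (∀ i, i ≠ p → P i w = 0) → w = 0 := fun w hw => by
    refine (StalkModule.mono_iff_stalkMapₗ_injective (kernel.ι (freeHom v))).1 inferInstance x ?_
    rw [map_zero]
    let u := StalkModule.stalkMapₗ (kernel.ι (freeHom v)) x w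
    have hdec : u = ∑ i, StalkModule.stalkMapₗ (Sigma.ι (fun _ : Fin (n + 1) => Coh.structureModule X) i) x ((oe x).symm (P i w)) := by
      have h1 := congrArg (fun f => StalkModule.stalkMapₗ (kernel.ι (freeHom v) ≫ f) x w) (sum_proj (X := X) (n := n))
      simp only [Category.comp_id, Preadditive.comp_sum, stalkMapₗ_sum, LinearMap.sum_apply, ← Category.assoc] at h1
      refine h1.symm.trans (Finset.sum_congr rfl fun i _ => ?_)
      rw [StalkModule.stalkMapₗ_comp]
      exact congrArg _ ((oe x).symm_apply_apply _).symm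
    rw [Finset.sum_eq_single p (fun i _ hi => by rw [hw i hi, map_zero, map_zero])
      (fun h => absurd (Finset.mem_univ p) h)] at hdec
    have hk : StalkModule.stalkMapₗ (freeHom v) x u = 0 := by
      show (StalkModule.stalkMapₗ (freeHom v) x ∘ₗ StalkModule.stalkMapₗ (kernel.ι (freeHom v)) x) w = 0
      rw [← StalkModule.stalkMapₗ_comp, kernel.condition, StalkModule.stalkMapₗ_zero, LinearMap.zero_apply]
    -- compose with the contraction at `τ`
    have hmul : P p w * e p = 0 := (congrArg (· * e p) ((oe x).apply_symm_apply _).symm).trans <| hrel p ((oe x).symm (P p w)) (by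
      rw [hdec, ← LinearMap.comp_apply, ← StalkModule.stalkMapₗ_comp] at hk
      simpa [freeHom] using hk)
    show u = 0
    rw [hdec, (IsUnit.mul_left_eq_zero hp).1 hmul, map_zero, map_zero]
  -- solve the triangular system
  let I := {i : Fin (n + 1) // i ≠ p}
  let idx : I → Fin (2 * n - 1) := fun i => ⟨i.1 + p - 1, by
    have := i.1.2; have := p.2; have : (i.1 : ℕ) ≠ p := Fin.val_ne_of_ne i.2; omega⟩
  let M : Matrix I I (X.presheaf.stalk x) := fun i' i => ∑ j, coef (idx i) i'.1 j • e j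
  have hM : IsUnit M.det := by
    have hmap : ((IsLocalRing.residue (X.presheaf.stalk x)).mapMatrix M).BlockTriangular id := by
      intro i' i hlt
      show IsLocalRing.residue _ (∑ j, coef (idx i) i'.1 j • e j) = 0
      refine (IsLocalRing.residue_eq_zero_iff _).2 (Submodule.sum_mem _ fun j _ => ?_)
      rcases lt_or_ge j p with hj | hj
      · exact zsmul_mem (hsmall j hj) _
      · rw [show coef (idx i : ℕ) i'.1 j = 0 from if_neg fun h => ?_, zero_smul]
        · exact zero_mem _
        · have : (i.1 : ℕ) < i'.1 := hlt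
          have : (p : ℕ) ≤ j := hj
          have : (i.1 : ℕ) ≠ p := Fin.val_ne_of_ne i.2
          simp only [idx] at h
          omega
    rw [← IsLocalRing.residue_ne_zero_iff_isUnit, RingHom.map_det, Matrix.det_of_upperTriangular hmap]
    refine Finset.prod_ne_zero_iff.2 fun i _ => ?_
    show IsLocalRing.residue _ (∑ j, coef (idx i) i.1 j • e j) ≠ 0
    have hip : (i.1 : ℕ) ≠ p := Fin.val_ne_of_ne i.2
    rw [Finset.sum_eq_single p (fun j _ hj => by
        rw [show coef (idx i : ℕ) i.1 j = 0 from if_neg fun h => hj (Fin.ext (by simp only [idx] at h; omega)), zero_smul])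
      (fun h => absurd (Finset.mem_univ p) h)]
    rw [show coef (idx i : ℕ) i.1 p = if i.1 < p then 1 else if p < i.1 then -1 else 0 from
      if_pos (by simp only [idx]; omega)]
    rcases lt_or_gt_of_ne i.2 with h | h
    · rw [if_pos h, one_smul]; exact (IsLocalRing.residue_ne_zero_iff_isUnit _).2 hp
    · rw [if_neg h.asymm, if_pos h, neg_smul, one_smul, map_neg, neg_ne_zero]
      exact (IsLocalRing.residue_ne_zero_iff_isUnit _).2 hp
  obtain ⟨a, ha⟩ := (Matrix.mulVec_surjective_iff_isUnit.2 ((Matrix.isUnit_iff_isUnit_det M).2 hM)) fun i => P i.1 z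
  refine ⟨∑ i : I, a i • StalkModule.stalkMapₗ (Sigma.ι (fun _ : Fin (2 * n - 1) => T) (idx i)) x τ, ?_⟩
  rw [map_sum, ← sub_eq_zero]
  refine hinj _ fun i' hi' => ?_
  rw [map_sub, map_sum, sub_eq_zero]
  refine Eq.trans (Finset.sum_congr rfl fun i _ => ?_) (congrFun ha ⟨i', hi'⟩)
  rw [map_smul, map_smul, smul_eq_mul, mul_comm]
  refine congrArg (· * a i) ?_
  rw [← LinearMap.comp_apply (StalkModule.stalkMapₗ (Sigma.desc _) x), ← StalkModule.stalkMapₗ_comp, Sigma.ι_desc]
  exact hP _ _

/-- Contraction detects sections. -/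
theorem eq_zero_of_contr (hL : PicF.IsInvertible L) (hT : PicF.IsInvertible T) [Epi (freeHom v)]
    {y : Γ(L, ⊤)} (h : contr c y = 0) : y = 0 := by
  refine section_ext L _ _ fun x _ => ?_
  obtain ⟨W₁, g, hx₁, hg⟩ := isInvertible_iff.1 hL x
  obtain ⟨W₂, t, hx₂, ht⟩ := isInvertible_iff.1 hT x
  obtain ⟨W, hW₁, hW₂, hx⟩ : ∃ W : X.Opens, W ≤ W₁ ∧ W ≤ W₂ ∧ x ∈ W :=
    ⟨W₁ ⊓ W₂, inf_le_left, inf_le_right, hx₁, hx₂⟩
  refine ⟨W, le_top, hx, ?_⟩
  have hg₀ := hg.res hW₁
  have ht₀ := ht.res hW₂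
  let G : Γ(L, W) := rs L hW₁ g
  let T₀ : Γ(T, W) := rs T hW₂ t
  obtain ⟨f, hf⟩ := Ample.GenLocus.exists_coord hg₀ (rs L le_top y)
  obtain ⟨b, hb⟩ := Ample.GenLocus.exists_coord (Ample.GenLocus.isGen_tmul hg₀ ht₀) (c.inv.app W (1 : Γ(X, W)))
  let E : Γ(X, W) := c.hom.app W (tens G T₀)
  have h1 : f * E = 0 := by
    have := (contr_app c y W T₀).symm.trans (congrArg (fun z : T ⟶ _ => z.app W T₀) h)
    rw [hf, tens_smul_left, Scheme.Modules.Hom.app_smul] at this
    exact this
  have h4 : (1 : Γ(X, W)) = b * E := by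
    have h2 : c.hom.app W (c.inv.app W (1 : Γ(X, W))) = b • c.hom.app W (tens G T₀) :=
      (congrArg (c.hom.app W) hb).trans (Scheme.Modules.Hom.app_smul _ _ _)
    refine Eq.trans ?_ h2
    show _ = (c.inv ≫ c.hom).app W (1 : Γ(X, W))
    rw [c.inv_hom_id]
    rfl
  have h3 : f = 0 :=
    calc f = f * 1 := (mul_one f).symm
      _ = b * (f * E) := by rw [h4]; ring
      _ = 0 := by rw [h1, mul_zero]
  rw [hf, h3, zero_smul, rs_zero]

end Gen

end Groth.Agent.Lib.PnOmega.Tango
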