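import Groth.Agent.Lib.PnOmega.Tango

/-!
# The Tango bundle on `P^n` is simple of rank `n - 1`
-/

set_option autoImplicit false
set_option linter.style.haveILetI false
universe u

open CategoryTheory CategoryTheory.Limits AlgebraicGeometry
open CategoryTheory.Abelian

noncomputable section

namespace Groth.Agent.Lib.PnOmega.Tango

open Groth.Agent.Lib TensorMod.Basic ProjCoh ProjCoh.Coherent Modules.Free CurveBundle

variable {n : ℕ} {k : Type u} [Field k]

theorem contr_smul (c : CohB1.tensorMod (tw n k 1) (tw n k (-1)) ≅ Coh.structureModule (CohB1.ProjSpace n k))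
    (a : Γ(CohB1.ProjSpace n k, ⊤)) (y : Γ(tw n k 1, ⊤)) (U : (CohB1.ProjSpace n k).Opens) (t : Γ(tw n k (-1), U)) :
    (contr c (a • y)).app U t = TensorMod.Dual.rf (le_top : U ≤ ⊤) a • (contr c y).app U t := by
  rw [contr_app, contr_app, TensorMod.Dual.rs_smul, Modules.TensorSec.tens_smul_left, Scheme.Modules.Hom.app_smul]

theorem contr_sum {ι : Type*} (s : Finset ι)
    (c : CohB1.tensorMod (tw n k 1) (tw n k (-1)) ≅ Coh.structureModule (CohB1.ProjSpace n k))
    (y : ι → Γ(tw n k 1, ⊤)) : contr c (∑ i ∈ s, y i) = ∑ i ∈ s, contr c (y i) :=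
  map_sum (AddMonoidHom.mk' (fun z => contr c z) fun a b =>
    Scheme.Modules.hom_ext _ _ fun U => ConcreteCategory.ext_apply fun t => by
      rw [contr_app]
      show _ = (contr c a).app U t + (contr c b).app U t
      rw [contr_app, contr_app]
      exact ((congrArg (fun z => c.hom.app U (Modules.TensorSec.tens z t)) (map_add _ a b)).trans
        (congrArg (c.hom.app U) (Modules.TensorSec.tens_add_left _ _ t))).trans (map_add _ _ _)) y s

theorem smul_contr (c : CohB1.tensorMod (tw n k 1) (tw n k (-1)) ≅ Coh.structureModule (CohB1.ProjSpace n k))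
    (a : k) (y : Γ(tw n k 1, ⊤)) : a • contr c y = contr c (cst n k a • y) := by
  have e : a • contr c y = contr c y ≫ (a • 𝟙 _) := by rw [Linear.comp_smul, Category.comp_id]
  refine Scheme.Modules.hom_ext _ _ fun U => ConcreteCategory.ext_apply fun t => ?_
  rw [contr_smul, e, KLin.smul_id]
  rfl

/-- The forms are linearly independent. -/
theorem forms_indep {v : Fin (n + 1) → Γ(tw n k 1, ⊤)} [Epi (freeHom v)]
    (hv : ∀ a : Fin (n + 1) → k, ∑ i, cst n k (a i) • v i = 0 → a = 0)
    (c : CohB1.tensorMod (tw n k 1) (tw n k (-1)) ≅ Coh.structureModule (CohB1.ProjSpace n k))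
    (a : Fin (2 * n - 1) → k) (h : ∑ m, a m • formK c v (isInvertible_tw 1) m = 0) : a = 0 := by
  classical
  funext m
  have key : ∀ i j : Fin (n + 1), ∑ m : Fin (2 * n - 1), a m * ((coef (m : ℕ) i j : ℤ) : k) = 0 := fun i => by
    refine congrFun (hv (fun j => ∑ m : Fin (2 * n - 1), a m * ((coef (m : ℕ) i j : ℤ) : k)) ?_)
    refine eq_zero_of_contr c v (isInvertible_tw 1) (isInvertible_tw (-1)) ?_
    have h1 := congrArg (fun g => g ≫ kernel.ι (freeHom v) ≫ proj i) h
    simp only [Preadditive.sum_comp, Linear.smul_comp, formK, kernel.lift_ι_assoc, form_proj,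
      Finset.smul_sum, zero_comp] at h1
    rw [contr_sum, ← h1, Finset.sum_comm]
    refine Finset.sum_congr rfl fun j _ => ?_
    rw [← smul_contr, Finset.sum_smul]
    exact Finset.sum_congr rfl fun m _ => by rw [← Int.cast_smul_eq_zsmul k, smul_smul]
  obtain ⟨i, j, hij, hlt⟩ : ∃ i j : Fin (n + 1), (i : ℕ) + j = (m : ℕ) + 1 ∧ i < j := by
    have hm := m.2
    refine ⟨⟨if (m : ℕ) + 1 ≤ n then 0 else (m : ℕ) + 1 - n, by split_ifs <;> omega⟩,
      ⟨if (m : ℕ) + 1 ≤ n then (m : ℕ) + 1 else n, by split_ifs <;> omega⟩, ?_, ?_⟩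
    · show (if (m : ℕ) + 1 ≤ n then 0 else (m : ℕ) + 1 - n) + (if (m : ℕ) + 1 ≤ n then (m : ℕ) + 1 else n) = _
      split_ifs <;> omega
    · show (if (m : ℕ) + 1 ≤ n then 0 else (m : ℕ) + 1 - n) < (if (m : ℕ) + 1 ≤ n then (m : ℕ) + 1 else n)
      split_ifs <;> omega
  have h2 := key i j
  rw [Finset.sum_eq_single m (fun m' _ hm' => by
      rw [show coef (m' : ℕ) i j = 0 from if_neg fun h => hm' (Fin.ext (by omega)), Int.cast_zero, mul_zero])
    (fun h => absurd (Finset.mem_univ m) h), show coef (m : ℕ) i j = 1 by simp [coef, hij, hlt]] at h2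
  simpa using h2

theorem subsingleton_ext_two [HasExt.{u} (CohB1.ProjSpace n k).Modules] (hn : 3 ≤ n) :
    Subsingleton (Ext.{u} (Twist.twistProjSpace n k 1) (tw n k (-1)) 2) :=
  subsingleton_ext_tw' (a := 1) (b := -1) (by omega) two_ne_zero

theorem subsingleton_ext_free [HasExt.{u} (CohB1.ProjSpace n k).Modules] (hn : 3 ≤ n) :
    Subsingleton (Ext.{u} (FlatMod.freeMod (CohB1.ProjSpace n k) (n + 1)) (tw n k (-1)) 1) := by
  refine subsingleton_of_forall_eq 0 fun x => ?_
  have h : Subsingleton (Ext.{u} (Coh.structureModule (CohB1.ProjSpace n k)) (tw n k (-1)) 1) :=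
    SerreDual.subsingleton_ext_iso (twZero (n := n) (R := k)).symm (Iso.refl _) 1
      (PnStable.Serre.subsingleton_ext_one (by omega) _ _)
  rw [← Ext.mk₀_id_comp x, ← sum_proj, Ext.mk₀_sum, Ext.sum_comp]
  refine Finset.sum_eq_zero fun b _ => ?_
  rw [← Ext.mk₀_comp_mk₀, Ext.comp_assoc _ _ _ (zero_add 0) (zero_add 1) (by omega), h.elim ((Ext.mk₀ _).comp x _) 0,
    Ext.comp_zero]

theorem sum_projT {N : ℕ} {X : Scheme.{u}} (T : X.Modules) :
    ∑ b : Fin N, (Sigma.desc fun l => if l = b then 𝟙 T else 0) ≫ Sigma.ι (fun _ : Fin N => T) b = 𝟙 _ :=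
  Sigma.hom_ext _ _ fun a => by
    rw [Preadditive.comp_sum, Category.comp_id]
    refine (Finset.sum_eq_single a (fun b _ hb => ?_) fun h => absurd (Finset.mem_univ a) h).trans ?_
    · simp [Ne.symm hb]
    · simp

set_option maxHeartbeats 1000000 in
/-- The kernel of the forms is simple of rank `n - 1`. -/
theorem exists_simple [IsAlgClosed k] (hn : 3 ≤ n) :
    ∃ F : (CohB1.ProjSpace n k).Modules, FlatMod.IsFinLocFreeOfRank (n - 1) F ∧
      ∀ φ : F ⟶ F, ∃ a : k, φ = a • 𝟙 F := by
  classical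
  haveI := ProjSpace.Basic.isProper_toSpec n k
  haveI := hasExt_of_enoughInjectives.{u} (CohB1.ProjSpace n k).Modules
  obtain ⟨v', he', hv', hi'⟩ := exists_euler n k
  obtain ⟨v, he, hv, ⟨iv⟩⟩ : ∃ v : Fin (n + 1) → Γ(tw n k 1, ⊤),
      Epi (freeHom v) ∧ (∀ a : Fin (n + 1) → k, ∑ i, cst n k (a i) • v i = 0 → a = 0) ∧
      Nonempty (CohB1.tensorMod (Omega.sheaf (CohB1.ProjSpace.toSpec n k)) (Twist.twistProjSpace n k 1) ≅
        kernel (freeHom v)) := ⟨v', he', hv', hi'⟩
  haveI := he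
  haveI : Epi (freeHom (M := Twist.twistProjSpace n k 1) v) := he
  have hT : PicF.IsInvertible (tw n k (-1)) := isInvertible_tw _
  let c : CohB1.tensorMod (tw n k 1) (tw n k (-1)) ≅ Coh.structureModule (CohB1.ProjSpace n k) :=
    twCancel 1 (-1) (by norm_num)
  let T := tw n k (-1)
  let s : Fin (2 * n - 1) → (T ⟶ kernel (freeHom v)) := fun m => formK c v (isInvertible_tw 1) m
  let q : (∐ fun _ : Fin (2 * n - 1) => T) ⟶ kernel (freeHom v) := Sigma.desc s
  haveI : Epi q := epi_forms c v (isInvertible_tw 1) hT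
  have hK : FlatMod.IsFinLocFreeOfRank n (kernel (freeHom v)) :=
    TensorMod.LocFree.rank_of_iso iv (by
      simpa using TensorMod.LocFree.rank_tensorMod
        (FundLocal.Rank.isFinLocFreeOfRank_omega (CohB1.ProjSpace.toSpec n k) n)
        (TensorMod.LocFree.of_isInvertible (ProjSpace.IsBundle.isInvertible_one n k)))
  have hG : FlatMod.IsFinLocFreeOfRank ((n - 1) + n) (∐ fun _ : Fin (2 * n - 1) => T) := by
    haveI := GP.additive_tensorBy T
    let f : (tensorBy T).obj (FlatMod.freeMod (CohB1.ProjSpace n k) (2 * n - 1)) ≅ ∐ fun _ : Fin (2 * n - 1) => T :=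
      PreservesCoproduct.iso (tensorBy T) (fun _ : Fin (2 * n - 1) => Coh.structureModule (CohB1.ProjSpace n k)) ≪≫
        Sigma.mapIso fun _ => leftUnit T
    have h := TensorMod.LocFree.rank_of_iso f (TensorMod.LocFree.rank_tensorMod
      (TensorMod.LocFree.isFinLocFree_freeMod _ (2 * n - 1)) (TensorMod.LocFree.of_isInvertible hT))
    have e : (2 * n - 1) * 1 = (n - 1) + n := by omega
    exact e ▸ h
  refine ⟨kernel q, Cyc.CH.SplitPullback.rank_kernel q hG hK, fun φ => ?_⟩
  let S : ShortComplex (CohB1.ProjSpace n k).Modules := ShortComplex.mk (kernel.ι q) q (kernel.condition q)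
  have hS : S.ShortExact :=
    { exact := ShortComplex.exact_of_f_is_kernel _ (kernelIsKernel q), epi_g := ‹Epi q› }
  have h1 : Subsingleton (Ext.{u} (kernel (freeHom v)) T 1) := by
    refine subsingleton_of_forall_eq 0 fun x => ?_
    obtain ⟨y, rfl⟩ := Ext.contravariant_sequence_exact₁ (eulerSeq_shortExact v) T x (by norm_num : 1 + 1 = 2)
      ((subsingleton_ext_two hn).elim _ _)
    rw [(subsingleton_ext_free hn).elim y 0]
    exact Ext.comp_zero _ _ _ _ _
  let π : Fin (2 * n - 1) → ((∐ fun _ : Fin (2 * n - 1) => T) ⟶ T) := fun b => Sigma.desc fun l => if l = b then 𝟙 T else 0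
  choose g hg using fun b => exists_extend hS h1 ((φ ≫ kernel.ι q) ≫ π b)
  let A : (∐ fun _ : Fin (2 * n - 1) => T) ⟶ ∐ fun _ : Fin (2 * n - 1) => T :=
    ∑ b, g b ≫ Sigma.ι (fun _ : Fin (2 * n - 1) => T) b
  have hA : kernel.ι q ≫ A = φ ≫ kernel.ι q := by
    rw [← Category.comp_id (φ ≫ kernel.ι q), ← sum_projT T, Preadditive.comp_sum, Preadditive.comp_sum]
    refine Finset.sum_congr rfl fun b _ => ?_
    exact (Category.assoc _ _ _).symm.trans ((congrArg (· ≫ Sigma.ι (fun _ : Fin (2 * n - 1) => T) b) (hg b)).trans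
      (Category.assoc _ _ _))
  have hz : kernel.ι q ≫ A ≫ q = 0 := by
    rw [reassoc_of% hA, kernel.condition, comp_zero]
  obtain ⟨α, hα⟩ : ∃ α, q ≫ α = A ≫ q := ⟨hS.exact.desc (A ≫ q) hz, hS.exact.g_desc _ _⟩
  obtain ⟨a, rfl⟩ := end_kernel_scalar v hv (by omega) α
  choose M hM using fun l b => end_scalar hT (Sigma.ι (fun _ : Fin (2 * n - 1) => T) l ≫ A ≫ π b)
  have hcol : ∀ l, Sigma.ι (fun _ : Fin (2 * n - 1) => T) l ≫ A = ∑ b, M l b • Sigma.ι (fun _ : Fin (2 * n - 1) => T) b := fun l => by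
    conv_lhs => rw [← Category.comp_id A, ← sum_projT T]
    rw [Preadditive.comp_sum, Preadditive.comp_sum]
    refine Finset.sum_congr rfl fun b _ => ?_
    rw [← Category.assoc A, ← Category.assoc, hM l b, Linear.smul_comp, Category.id_comp]
  refine ⟨a, ?_⟩
  have hAa : A = a • 𝟙 _ := Sigma.hom_ext _ _ fun l => by
    have hz2 : ∑ b, (M l b - if b = l then a else 0) • s b = 0 := by
      have h3 : a • s l = ∑ b, M l b • s b := by
        have e1 : Sigma.ι (fun _ : Fin (2 * n - 1) => T) l ≫ q ≫ (a • 𝟙 _) = a • s l := by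
          rw [← Category.assoc, show Sigma.ι (fun _ : Fin (2 * n - 1) => T) l ≫ q = s l from Sigma.ι_desc _ _,
            Linear.comp_smul]
          exact congrArg (a • ·) (Category.comp_id _)
        have e2 : Sigma.ι (fun _ : Fin (2 * n - 1) => T) l ≫ A ≫ q = ∑ b, M l b • s b := by
          rw [← Category.assoc, hcol, Preadditive.sum_comp]
          exact Finset.sum_congr rfl fun b _ => by
            rw [Linear.smul_comp, show Sigma.ι (fun _ : Fin (2 * n - 1) => T) b ≫ q = s b from Sigma.ι_desc _ _]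
        exact e1.symm.trans ((congrArg (Sigma.ι (fun _ : Fin (2 * n - 1) => T) l ≫ ·) hα).trans e2)
      simp only [sub_smul, Finset.sum_sub_distrib, ite_smul, zero_smul, Finset.sum_ite_eq', Finset.mem_univ, if_true]
      rw [← h3, sub_self]
    have h4 := forms_indep hv c _ hz2
    rw [hcol, Linear.comp_smul, Category.comp_id]
    refine (Finset.sum_congr rfl fun b _ => ?_).trans ((Finset.sum_ite_eq' _ l
      fun b => a • Sigma.ι (fun _ : Fin (2 * n - 1) => T) b).trans (if_pos (Finset.mem_univ l)))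
    rw [sub_eq_zero.1 (congrFun h4 b), ite_smul, zero_smul]
  rw [← cancel_mono (kernel.ι q), ← hA, hAa, Linear.comp_smul, Linear.smul_comp, Category.comp_id, Category.id_comp]

end Groth.Agent.Lib.PnOmega.Tango
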