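import Groth.Agent.Lib.BirMap96.SecProd
import Groth.Agent.Lib.GrassBdl.Emb
import Groth.Agent.Lib.Modules.AffineHom
import Groth.Prelude.Def_ExtPow2

/-!
# Wedging with a section of a rank two bundle
-/

set_option autoImplicit false
set_option linter.style.haveILetI false
universe u

open CategoryTheory CategoryTheory.Limits AlgebraicGeometry Opposite TopologicalSpace
open Groth.Agent.Lib
open Groth.Agent.Lib.TensorMod.Dual (rs rf rs_rs rs_smul)
open Groth.Agent.Lib.Modules.TensorSec (section_ext rs_zero app_rs)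

noncomputable section

namespace Groth.Agent.Lib.PnOmega.Wedge

variable {R : Type u} [CommRing R] {M : Type u} [AddCommGroup M] [Module R M]

/-- If a vector wedges to zero with a basis of a free module of rank two, it is zero. -/
theorem eq_zero_of_wedge (b : Module.Basis (Fin 2) R M) (v : M)
    (h : ∀ j, exteriorPower.ιMulti R 2 ![v, b j] = 0) : v = 0 := by
  have key : ∀ j, b.det ![v, b j] = 0 := fun j => by
    have h1 := congrArg (exteriorPower.alternatingMapLinearEquiv b.det) (h j)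
    rwa [exteriorPower.alternatingMapLinearEquiv_apply_ιMulti, map_zero] at h1
  apply b.ext_elem
  intro i
  have h0 := key 0
  have h1 := key 1
  rw [Module.Basis.det_apply, Matrix.det_fin_two] at h0 h1
  simp [Module.Basis.toMatrix_apply] at h0 h1
  fin_cases i <;> simp [h0, h1]

variable (R M) in
/-- `e ↦ v ∧ e`. -/
def wedgeBy (v : M) : M →ₗ[R] ↥(⋀[R]^2 M) :=
  (exteriorPower.ιMulti R 2).toMultilinearMap.toLinearMap ![v, 0] 1

theorem wedgeBy_apply (v e : M) : wedgeBy R M v e = exteriorPower.ιMulti R 2 ![v, e] := by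
  simp only [wedgeBy, MultilinearMap.toLinearMap_apply]
  refine congrArg _ ?_
  funext j
  fin_cases j <;> simp

theorem wedgeBy_self (v : M) : wedgeBy R M v v = 0 :=
  (wedgeBy_apply v v).trans ((exteriorPower.ιMulti R 2).map_eq_zero_of_eq _ (i := 0) (j := 1) (by simp) (by simp))

variable {X : Scheme.{u}} [IsIntegral X] {F L : X.Modules}

/-- Wedging with a nonzero section. -/
theorem exists_wedge (hF : FlatMod.IsFinLocFreeOfRank 2 F) (hL : ExtPow.IsExtPow 2 F L)
    {s : Γ(F, ⊤)} (hs : s ≠ 0) :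
    ∃ t : F ⟶ L, t ≠ 0 ∧ Curves.Clifford.σ F s ≫ t = 0 ∧ Mono (Curves.Clifford.σ F s) ∧
      ∃ ψ : ∀ U : X.affineOpens, ↥(⋀[Γ(X, U.1)]^2 Γ(F, U.1)) ≃ₗ[Γ(X, U.1)] Γ(L, U.1),
        (∀ (U V : X.affineOpens) (h : V.1 ≤ U.1) (e : Fin 2 → Γ(F, U.1)),
          rs L h (ψ U (exteriorPower.ιMulti _ 2 e)) = ψ V (exteriorPower.ιMulti _ 2 fun j => rs F h (e j))) ∧
        ∀ (U : X.affineOpens) (e : Γ(F, U.1)),
          t.app U.1 e = ψ U (exteriorPower.ιMulti _ 2 ![rs F le_top s, e]) := by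
  have hDB : Modules.DualBasis.HasDBases F :=
    Modules.DualBasis.hasDBases_of_isFinLocFree (TensorMod.LocFree.of_rank hF)
  obtain ⟨φ, hφ⟩ := hL
  let T : ∀ U : X.affineOpens, Γ(F, U.1) →ₗ[Γ(X, U.1)] Γ(L, U.1) := fun U =>
    (φ U).symm.toLinearMap.comp (wedgeBy Γ(X, U.1) Γ(F, U.1) (rs F le_top s))
  obtain ⟨t, ht⟩ := Modules.AffineHom.exists_hom_of_affine T fun U V h m => by
    show rs L h ((φ U).symm (wedgeBy _ _ _ m)) = (φ V).symm (wedgeBy _ _ _ (rs F h m))
    refine (congrArg (fun z => rs L h ((φ U).symm z)) (wedgeBy_apply _ _)).trans ?_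
    refine ((hφ U V h ![rs F le_top s, m]).trans (congrArg (φ V).symm (congrArg _ (funext fun j => ?_)))).trans
      (congrArg (φ V).symm (wedgeBy_apply _ _).symm)
    fin_cases j
    · exact rs_rs F _ h s
    · rfl
  refine ⟨t, fun h0 => hs ?_, ?_, BirMap96.SecProd.mono_section hDB hs, fun U => (φ U).symm, hφ,
    fun U e => (ht U e).trans (congrArg (φ U).symm (wedgeBy_apply _ _))⟩
  · obtain ⟨p⟩ := (inferInstance : Nonempty X)
    obtain ⟨W, hW, hpW, ⟨b⟩⟩ := GrassBdl.Emb.exists_basis hF p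
    refine BirMap96.SecProd.rs_injective hDB (W := W) ⟨p, hpW⟩ (eq_zero_of_wedge b _ fun j => ?_)
    apply (φ ⟨W, hW⟩).symm.injective
    refine (congrArg (φ ⟨W, hW⟩).symm (wedgeBy_apply _ _).symm).trans ((ht ⟨W, hW⟩ (b j)).symm.trans ?_)
    refine (congrArg (fun (z : F ⟶ L) => z.app W (b j)) h0).trans ?_
    exact (map_zero (φ ⟨W, hW⟩).symm).symm
  · refine Modules.Free.unitHom_ext ?_
    show t.app ⊤ ((Curves.Clifford.σ F s).app ⊤ (1 : Γ(X, ⊤))) = 0
    rw [Curves.Clifford.σ_one]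
    refine section_ext _ _ _ fun x _ => ?_
    obtain ⟨U, hU, hxU⟩ := Modules.AffineHom.exists_affine (X := X) (V := ⊤) (x := x) trivial
    refine ⟨U.1, hU, hxU, ?_⟩
    rw [rs_zero, ← app_rs, ht]
    exact (congrArg (φ U).symm (wedgeBy_self _)).trans (map_zero _)

end Groth.Agent.Lib.PnOmega.Wedge
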